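import Groth.Agent.ZeroSchLib.Basic
import Groth.Agent.CycLib28.C1Flat
import Groth.Agent.CycLib28.GysinBase
import Groth.Agent.Coherent.FiniteType
import Groth.Prelude.Def_C1

/-!
# Zero schemes of sections, with their ideals
-/

set_option autoImplicit false
set_option linter.style.haveILetI false
set_option linter.unusedSectionVars false
set_option backward.isDefEq.respectTransparency.types false
set_option maxHeartbeats 1000000

universe u

open CategoryTheory CategoryTheory.Limits AlgebraicGeometry Opposite TopologicalSpace IsLocalRing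
open Groth.Agent.Coherent Groth.Agent.PicLib Groth.Agent.CycLim28 Groth.Agent.CycLib28

namespace Groth.Agent.GysDef28

variable {X : Scheme.{u}} {L : X.Modules}

theorem ideal_le_of_germ {U : X.Opens} (hU : IsAffineOpen U) {I J : Ideal Γ(X, U)}
    (h : ∀ (x : X) (hx : x ∈ U), I.map (X.presheaf.germ U x hx).hom ≤ J.map (X.presheaf.germ U x hx).hom) : I ≤ J := by
  intro a ha
  let K : Ideal Γ(X, U) := (Submodule.colon J {a})
  suffices hK : K = ⊤ by
    have h1 : (1 : Γ(X, U)) ∈ K := hK ▸ Submodule.mem_top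
    simpa [K, Submodule.mem_colon_singleton] using h1
  by_contra hK
  obtain ⟨P, hP, hKP⟩ := Ideal.exists_le_maximal K hK
  let q : ↥(Spec Γ(X, U)) := ⟨P, hP.isPrime⟩
  have hx : hU.fromSpec q ∈ U := by
    have : hU.fromSpec q ∈ Set.range hU.fromSpec := ⟨q, rfl⟩
    rwa [hU.range_fromSpec] at this
  letI := X.presheaf.algebra_section_stalk ⟨hU.fromSpec q, hx⟩
  haveI : IsLocalization q.asIdeal.primeCompl (X.presheaf.stalk (hU.fromSpec q)) := hU.isLocalization_stalk' q hx
  obtain ⟨⟨⟨j, hj⟩, w⟩, hw⟩ := (IsLocalization.mem_map_algebraMap_iff q.asIdeal.primeCompl _).1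
    (h (hU.fromSpec q) hx (Ideal.mem_map_of_mem _ ha))
  change (algebraMap _ (X.presheaf.stalk (hU.fromSpec q))) a * _ = _ at hw
  rw [← map_mul, IsLocalization.eq_iff_exists q.asIdeal.primeCompl] at hw
  obtain ⟨c, hc⟩ := hw
  have hmem : (c.1 * w.1) ∈ K := by
    rw [Submodule.mem_colon_singleton, smul_eq_mul, show c.1 * w.1 * a = c.1 * j by rw [← hc]; ring]
    exact J.mul_mem_left _ hj
  exact (q.asIdeal.primeCompl.mul_mem c.2 w.2) (hKP hmem)

theorem germ_top_eq (s : Γ(L, ⊤)) {U : X.Opens} {e : Γ(L, U)} (he : IsGen L U e) {x : X} (hx : x ∈ U) :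
    L.presheaf.germ ⊤ x trivial s =
      X.presheaf.germ U x hx (he.coef le_rfl (resM L le_top s)) • L.presheaf.germ U x hx e := by
  conv_lhs => rw [← VarietyLib.germ_resM (h := (le_top : U ≤ ⊤)) (hx := hx), ← he.coef_spec le_rfl (resM L le_top s), resM_self]
  exact QCohLoc.germ_smul' _ _ _ _

theorem mk_germ_eq_zero_iff (s : Γ(L, ⊤)) {U : X.Opens} {e : Γ(L, U)} (he : IsGen L U e) {x : X} (hx : x ∈ U) :
    (Submodule.Quotient.mk (L.presheaf.germ ⊤ x trivial s) : Cyc.secFibre L x) = 0 ↔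
      X.presheaf.germ U x hx (he.coef le_rfl (resM L le_top s)) ∈ maximalIdeal (X.presheaf.stalk x) := by
  rw [germ_top_eq s he hx, mk_eq_zero_iff_gen he]
  exact IsLocalRing.residue_eq_zero_iff _

/-- The zero scheme. -/
noncomputable def zsub (L : X.Modules) (s : Γ(L, ⊤)) : X.IdealSheafData := PicF2.zeroScheme L (unitDesc L s)

theorem zsub_ideal (hL : PicF.IsInvertible L) (s : Γ(L, ⊤)) (U : X.affineOpens) {e : Γ(L, U.1)} (he : IsGen L U.1 e) :
    (zsub L s).ideal U = Ideal.span {he.coef le_rfl (resM L le_top s)} := by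
  rw [zsub, ZeroSchLib.zeroScheme_ideal_eq_span _ hL U he, unitVal_unitDesc]

theorem exists_affine_gen (hL : PicF.IsInvertible L) (x : X) :
    ∃ (U : X.affineOpens) (e : Γ(L, U.1)), x ∈ U.1 ∧ IsGen L U.1 e := by
  obtain ⟨V, hV, e, he⟩ := exists_isGen hL x
  obtain ⟨_, ⟨W, hW, rfl⟩, hxW, hWV⟩ :=
    X.isBasis_affineOpens.exists_subset_of_mem_open (show x ∈ (V : Set X) from hV) V.2
  exact ⟨⟨W, hW⟩, resM L hWV e, hxW, he.restrict hWV⟩

theorem isZeroSchemeOf_zsub (hL : PicF.IsInvertible L) (s : Γ(L, ⊤)) :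
    Cyc.IsZeroSchemeOf (zsub L s).subschemeι L s := by
  refine ⟨?_, fun d => ?_⟩
  · ext x
    obtain ⟨U, e, hx, he⟩ := exists_affine_gen hL x
    rw [Scheme.IdealSheafData.range_subschemeι, SetLike.mem_coe, Scheme.IdealSheafData.mem_support_iff_of_mem hx,
      zsub_ideal hL s U he, Scheme.zeroLocus_span, Scheme.zeroLocus_singleton]
    show x ∉ X.basicOpen _ ↔ (Submodule.Quotient.mk _ : Cyc.secFibre L x) = 0
    rw [mk_germ_eq_zero_iff s he hx, Scheme.mem_basicOpen (hx := hx), IsLocalRing.mem_maximalIdeal, mem_nonunits_iff]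
  · obtain ⟨U, e, hx, he⟩ := exists_affine_gen hL ((zsub L s).subschemeι d)
    refine ⟨L.presheaf.germ U.1 _ hx e, X.presheaf.germ U.1 _ hx (he.coef le_rfl (resM L le_top s)), ?_,
      germ_top_eq s he hx, ?_⟩
    · refine Submodule.eq_top_iff'.2 fun v => ?_
      obtain ⟨c, hc⟩ := (VarietyLib.gen_germ_bijective he hx).2 v
      exact Submodule.mem_span_singleton.2 ⟨c, hc⟩
    · rw [CAlgH.CIImmersion.ker_stalkMap_eq _ d U.2 hx, Scheme.IdealSheafData.ker_subschemeι_app,
        zsub_ideal hL s U he, Ideal.map_span, Set.image_singleton]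

theorem ker_eq_zsub {D : Scheme.{u}} (i : D ⟶ X) [IsClosedImmersion i] (hL : PicF.IsInvertible L) (s : Γ(L, ⊤))
    (hD : Cyc.IsZeroSchemeOf i L s) : i.ker = zsub L s := by
  choose U e hx he using exists_affine_gen hL
  refine Scheme.IdealSheafData.ext_of_iSup_eq_top U (top_le_iff.1 fun x _ => Opens.mem_iSup.2 ⟨x, hx x⟩) fun x₀ => ?_
  set V := U x₀
  rw [zsub_ideal hL s V (he x₀), Scheme.Hom.ker_apply]
  have key : ∀ (y : X) (hy : y ∈ V.1), (RingHom.ker (i.app V.1).hom).map (X.presheaf.germ V.1 y hy).hom =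
      (Ideal.span {(he x₀).coef le_rfl (resM L le_top s)}).map (X.presheaf.germ V.1 y hy).hom := by
    intro y hy
    rw [Ideal.map_span, Set.image_singleton]
    by_cases hr : y ∈ Set.range i
    · obtain ⟨d, rfl⟩ := hr
      obtain ⟨t, f, ht, hf, hker⟩ := hD.2 d
      rw [← CAlgH.CIImmersion.ker_stalkMap_eq i d V.2 hy, hker]
      exact (span_coeff_eq (he x₀) hy ht (germ_top_eq s (he x₀) hy) hf).symm
    · have hu : IsUnit (X.presheaf.germ V.1 y hy ((he x₀).coef le_rfl (resM L le_top s))) := by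
        by_contra hu
        exact hr (hD.1.symm ▸ (mk_germ_eq_zero_iff s (he x₀) hy).2 ((IsLocalRing.mem_maximalIdeal _).2 hu))
      rw [Ideal.span_singleton_eq_top.2 hu, eq_top_iff]
      obtain ⟨a, ha, hay⟩ : ∃ a ∈ RingHom.ker (i.app V.1).hom, y ∈ X.basicOpen a := by
        by_contra hcon
        refine hr ?_
        have : y ∈ i.ker.support := by
          rw [Scheme.IdealSheafData.mem_support_iff_of_mem hy, Scheme.Hom.ker_apply, Scheme.mem_zeroLocus_iff]
          exact fun a ha hy' => hcon ⟨a, ha, hy'⟩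
        rwa [← SetLike.mem_coe, Scheme.Hom.support_ker, i.isClosedEmbedding.isClosed_range.closure_eq] at this
      rw [Scheme.mem_basicOpen (hx := hy)] at hay
      exact (Ideal.eq_top_of_isUnit_mem _ (Ideal.mem_map_of_mem _ ha) hay).ge
  exact le_antisymm (ideal_le_of_germ V.2 fun y hy => (key y hy).le) (ideal_le_of_germ V.2 fun y hy => (key y hy).ge)

end Groth.Agent.GysDef28
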