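import Groth.Agent.GysDef28.Pts
import Groth.Agent.GysDef28.Zero
import Groth.Agent.AmpleLib.Power
import Groth.Agent.CycLib28.PushAny

/-!
# The divisor `t = 0` and its projection to `D`
-/

set_option autoImplicit false
set_option linter.style.haveILetI false
set_option linter.unusedSectionVars false
set_option backward.isDefEq.respectTransparency.types false
set_option maxHeartbeats 1000000

universe u

open CategoryTheory CategoryTheory.Limits AlgebraicGeometry Opposite TopologicalSpace IsLocalRing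
open Groth.Agent.Coherent Groth.Agent.PicLib Groth.Agent.CycLim28 Groth.Agent.CycLib28

namespace Groth.Agent.GysDef28

variable {X : Scheme.{u}} {L : X.Modules} (s : Γ(L, ⊤)) (hL : PicF.IsInvertible L)

/-- `t` as a section of the structure module. -/
noncomputable def tO : Γ(Coh.structureModule (Sp s hL), ⊤) := (show Γ(Sp s hL, ⊤) from tSec s hL)

/-- The divisor. -/
noncomputable abbrev Dp : Scheme.{u} := (zsub (Coh.structureModule (Sp s hL)) (tO s hL)).subscheme

/-- Its inclusion. -/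
noncomputable abbrev ip : Dp s hL ⟶ Sp s hL := (zsub (Coh.structureModule (Sp s hL)) (tO s hL)).subschemeι

theorem isZero_ip : Cyc.IsZeroSchemeOf (ip s hL) (Coh.structureModule (Sp s hL)) (tO s hL) :=
  isZeroSchemeOf_zsub AmpleLib.isInvertible_structureModule _

theorem coef_tO (U : TA L) :
    (AmpleLib.isGen_oneSec (gg s hL ⁻¹ᵁ U.opn)).coef le_rfl (resM (Coh.structureModule (Sp s hL)) le_top (tO s hL)) =
      res le_top (tSec s hL) := by
  refine (AmpleLib.isGen_oneSec (gg s hL ⁻¹ᵁ U.opn)).coef_eq le_rfl ?_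
  rw [resM_self]
  show res le_top (tSec s hL) * _ = _
  exact mul_one _

theorem ker_app_ip (U : TA L) :
    RingHom.ker ((ip s hL).app (gg s hL ⁻¹ᵁ U.opn)).hom = Ideal.span {res le_top (tSec s hL)} := by
  rw [Scheme.IdealSheafData.ker_subschemeι_app _ ⟨_, isAffineOpen_pre s hL U⟩,
    zsub_ideal AmpleLib.isInvertible_structureModule _ ⟨_, isAffineOpen_pre s hL U⟩ (AmpleLib.isGen_oneSec _), coef_tO]

theorem mem_range_ip {U : TA L} {z : Sp s hL} (hz : z ∈ gg s hL ⁻¹ᵁ U.opn) :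
    z ∈ Set.range (ip s hL) ↔ T (fn s U) ∈ prm s hL U z hz := by
  rw [(isZero_ip s hL).1]
  show (Submodule.Quotient.mk _ : Cyc.secFibre _ z) = 0 ↔ germC s hL U z hz (T (fn s U)) ∈ maximalIdeal _
  rw [mk_germ_eq_zero_iff (tO s hL) (AmpleLib.isGen_oneSec (gg s hL ⁻¹ᵁ U.opn)) hz, coef_tO, germC_T]
  rw [show (Sp s hL).presheaf.germ (gg s hL ⁻¹ᵁ U.opn) z hz (res le_top (tSec s hL)) =
    (Sp s hL).presheaf.germ ⊤ z trivial (tSec s hL) from TopCat.Presheaf.germ_res_apply _ _ _ _ _]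

variable {D : Scheme.{u}} (i : D ⟶ X) [IsClosedImmersion i] (hD : Cyc.IsZeroSchemeOf i L s)

include hL hD in
theorem ker_app_i (U : TA L) : RingHom.ker (i.app U.opn).hom = Ideal.span {fn s U} := by
  have h := congrArg (fun J : X.IdealSheafData => J.ideal ⟨U.opn, U.aff⟩) (ker_eq_zsub i hL s hD)
  simp only [Scheme.Hom.ker_apply] at h
  rw [h, zsub_ideal hL s ⟨U.opn, U.aff⟩ (isGen_gen U)]
  rfl

theorem iSup_TA (hL : PicF.IsInvertible L) : ⨆ U : TA L, U.opn = ⊤ := top_le_iff.1 fun x _ => by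
  obtain ⟨U, hU⟩ := exists_TA (L := L) (x := x) hL
  exact Opens.mem_iSup.2 ⟨U, hU⟩

include hD in
theorem ker_le : i.ker ≤ (ip s hL ≫ gg s hL).ker := by
  refine Scheme.IdealSheafData.le_of_iSup_eq_top (fun U : TA L => (⟨U.opn, U.aff⟩ : X.affineOpens)) (iSup_TA hL) fun U => ?_
  simp only [Scheme.Hom.ker_apply]
  rw [ker_app_i s hL i hD U, Ideal.span_singleton_le_iff_mem, RingHom.mem_ker, Scheme.Hom.comp_app]
  show (ip s hL).app _ ((gg s hL).app U.opn (fn s U)) = 0
  rw [← tSec_mul_vFn, ← RingHom.mem_ker, ker_app_ip]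
  exact Ideal.mul_mem_right _ _ (Ideal.mem_span_singleton_self _)

/-- The projection to `D`. -/
noncomputable def pp : Dp s hL ⟶ D := IsClosedImmersion.lift i (ip s hL ≫ gg s hL) (ker_le s hL i hD)

theorem pp_i : pp s hL i hD ≫ i = ip s hL ≫ gg s hL := IsClosedImmersion.lift_fac _ _ _

theorem pp_i_apply (d : Dp s hL) : i (pp s hL i hD d) = gg s hL (ip s hL d) :=
  congrArg (fun f : Dp s hL ⟶ X => f d) (pp_i s hL i hD)

theorem preimage_pp (U : TA L) : pp s hL i hD ⁻¹ᵁ (i ⁻¹ᵁ U.opn) = ip s hL ⁻¹ᵁ (gg s hL ⁻¹ᵁ U.opn) := by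
  rw [← Scheme.Hom.comp_preimage, ← Scheme.Hom.comp_preimage, pp_i]

instance lft_pp : LocallyOfFiniteType (pp s hL i hD) := by
  haveI : LocallyOfFiniteType (pp s hL i hD ≫ i) := by rw [pp_i]; infer_instance
  exact locallyOfFiniteType_of_comp _ i

instance isAffineHom_pp : IsAffineHom (pp s hL i hD) := by
  haveI : IsAffineHom (pp s hL i hD ≫ i) := by rw [pp_i]; infer_instance
  exact MorphismProperty.of_postcomp (W := @IsAffineHom) (W' := @IsSeparated) (pp s hL i hD) i inferInstance inferInstance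

/-- Functions on `D` over a chart. -/
noncomputable def piD (U : TA L) : Γ(X, U.opn) →+* Γ(D, i ⁻¹ᵁ U.opn) := (i.app U.opn).hom

/-- Functions on the divisor over a chart. -/
noncomputable def piP (U : TA L) : GRing (fn s U) →+* Γ(Dp s hL, pp s hL i hD ⁻¹ᵁ (i ⁻¹ᵁ U.opn)) :=
  ((Dp s hL).presheaf.map (eqToHom (preimage_pp s hL i hD U)).op).hom.comp
    (((ip s hL).app (gg s hL ⁻¹ᵁ U.opn)).hom.comp (phi s hL U).symm.toRingHom)

theorem piP_eq_zero_iff (U : TA L) (r : GRing (fn s U)) :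
    piP s hL i hD U r = 0 ↔ r ∈ Ideal.span {T (fn s U)} := by
  show (Dp s hL).presheaf.map _ ((ip s hL).app _ ((phi s hL U).symm r)) = 0 ↔ _
  rw [map_eq_zero_iff _ (ConcreteCategory.bijective_of_isIso ((Dp s hL).presheaf.map (eqToHom (preimage_pp s hL i hD U)).op)).1,
    ← RingHom.mem_ker, ker_app_ip, Ideal.mem_span_singleton, Ideal.mem_span_singleton, ← map_dvd_iff (phi s hL U),
    RingEquiv.apply_symm_apply, phi_apply, tSec_spec]

theorem piP_surjective (U : TA L) : Function.Surjective (piP s hL i hD U) := by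
  intro y
  obtain ⟨y', rfl⟩ := (ConcreteCategory.bijective_of_isIso
    ((Dp s hL).presheaf.map (eqToHom (preimage_pp s hL i hD U)).op)).2 y
  obtain ⟨r, rfl⟩ := Scheme.Hom.app_surjective (ip s hL) _ (isAffineOpen_pre s hL U) y'
  refine ⟨phi s hL U r, ?_⟩
  show (Dp s hL).presheaf.map _ ((ip s hL).app _ ((phi s hL U).symm (phi s hL U r))) = _
  rw [RingEquiv.symm_apply_apply]

theorem piP_str (U : TA L) (a : Γ(X, U.opn)) :
    piP s hL i hD U (str (fn s U) a) = (pp s hL i hD).app (i ⁻¹ᵁ U.opn) (piD i U a) := by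
  have e : (phi s hL U).symm (str (fn s U) a) = (gg s hL).app U.opn a := by
    rw [RingEquiv.symm_apply_eq, phi_apply, secEquiv_app]
  show (Dp s hL).presheaf.map _ ((ip s hL).app _ ((phi s hL U).symm (str _ a))) = _
  rw [e]
  have h2 : ∀ (φ ψ : Dp s hL ⟶ X) (e1) (e2), φ = ψ → φ.appLE U.opn (pp s hL i hD ⁻¹ᵁ (i ⁻¹ᵁ U.opn)) e1 =
      ψ.appLE U.opn (pp s hL i hD ⁻¹ᵁ (i ⁻¹ᵁ U.opn)) e2 := fun φ ψ e1 e2 e => by subst e; rfl
  have h3 := h2 _ _ le_rfl (preimage_pp s hL i hD U).le (pp_i s hL i hD)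
  rw [Scheme.Hom.comp_appLE, Scheme.Hom.comp_appLE, ← Scheme.Hom.app_eq_appLE, Scheme.Hom.appLE] at h3
  exact (ConcreteCategory.congr_hom h3 a).symm

include hL hD in
theorem piD_eq_zero_iff (U : TA L) (a : Γ(X, U.opn)) : piD i U a = 0 ↔ a ∈ Ideal.span {fn s U} := by
  rw [← RingHom.mem_ker, piD, ker_app_i s hL i hD]

theorem piD_surjective (U : TA L) : Function.Surjective (piD i U) := Scheme.Hom.app_surjective _ _ U.aff

include hL hD in
theorem exists_kappa (U : TA L) : ∃ κ : Γ(D, i ⁻¹ᵁ U.opn) ≃+* Γ(X, U.opn) ⧸ Ideal.span {fn s U},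
    ∀ a, κ (piD i U a) = Ideal.Quotient.mk _ a := by
  let e := RingHom.quotientKerEquivOfSurjective (piD_surjective i U)
  have hker : RingHom.ker (piD i U) = Ideal.span {fn s U} := ker_app_i s hL i hD U
  refine ⟨e.symm.trans (Ideal.quotEquivOfEq hker), fun a => ?_⟩
  rw [RingEquiv.trans_apply, show e.symm (piD i U a) = Ideal.Quotient.mk _ a from e.symm_apply_eq.2 rfl]
  rfl

theorem exists_omega (U : TA L) : ∃ ω : Γ(Dp s hL, pp s hL i hD ⁻¹ᵁ (i ⁻¹ᵁ U.opn)) ≃+* Polynomial (Γ(X, U.opn) ⧸ Ideal.span {fn s U}),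
    ∀ r, ω (piP s hL i hD U r) = modT (fn s U) (Ideal.Quotient.mk _ r) := by
  let e := RingHom.quotientKerEquivOfSurjective (piP_surjective s hL i hD U)
  have hker : RingHom.ker (piP s hL i hD U) = Ideal.span {T (fn s U)} := Ideal.ext fun r => piP_eq_zero_iff s hL i hD U r
  refine ⟨(e.symm.trans (Ideal.quotEquivOfEq hker)).trans (RingEquiv.ofBijective _ (bijective_modT (fn s U))), fun r => ?_⟩
  rw [RingEquiv.trans_apply, RingEquiv.trans_apply, show e.symm (piP s hL i hD U r) = Ideal.Quotient.mk _ r from e.symm_apply_eq.2 rfl]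
  rfl

instance flat_pp : Flat (pp s hL i hD) := by
  refine IsZariskiLocalAtTarget.of_iSup_eq_top (fun U : TA L => i ⁻¹ᵁ U.opn) ?_ fun U => ?_
  · rw [← Scheme.Hom.preimage_iSup, iSup_TA hL, Scheme.Hom.preimage_top]
  haveI : IsAffine ↑(i ⁻¹ᵁ U.opn) := U.aff.preimage i
  haveI : IsAffine ↑(pp s hL i hD ⁻¹ᵁ (i ⁻¹ᵁ U.opn)) := (U.aff.preimage i).preimage (pp s hL i hD)
  rw [HasRingHomProperty.iff_of_isAffine (P := @Flat), morphismRestrict_appTop]
  have hf : ((pp s hL i hD).app (i ⁻¹ᵁ U.opn)).hom.Flat := by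
    obtain ⟨κ, hκ⟩ := exists_kappa s hL i hD U
    obtain ⟨ω, hω⟩ := exists_omega s hL i hD U
    have e : ((pp s hL i hD).app (i ⁻¹ᵁ U.opn)).hom = ω.symm.toRingHom.comp ((Polynomial.C).comp κ.toRingHom) := by
      refine RingHom.ext fun b => ?_
      obtain ⟨a, rfl⟩ := piD_surjective i U b
      show (pp s hL i hD).app _ (piD i U a) = ω.symm (Polynomial.C (κ (piD i U a)))
      rw [eq_comm, RingEquiv.symm_apply_eq, hκ, ← piP_str, hω]
      simp [modT]
    rw [e]
    refine RingHom.Flat.comp (RingHom.Flat.comp (RingHom.Flat.of_bijective κ.bijective) ?_) (RingHom.Flat.of_bijective ω.symm.bijective)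
    exact (RingHom.flat_algebraMap_iff (R := Γ(X, U.opn) ⧸ Ideal.span {fn s U})
      (S := Polynomial (Γ(X, U.opn) ⧸ Ideal.span {fn s U}))).2 inferInstance
  have key : ∀ V : D.Opens, V = i ⁻¹ᵁ U.opn → ((pp s hL i hD).app V).hom.Flat := fun V hV => by subst hV; exact hf
  exact RingHom.Flat.comp (key _ (Scheme.Opens.ι_image_top _))
    (RingHom.Flat.of_bijective (ConcreteCategory.bijective_of_isIso _))

theorem genV_mem_range {U : TA L} {x : X} (hx : x ∈ U.opn) (hf : fn s U ∈ bprm U x hx) :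
    genPt s hL (Sym.swp (fn s U)) hx ∈ Set.range (ip s hL) := by
  rw [mem_range_ip s hL (genPt_mem s hL _ hx), prm_genPt, Ideal.mem_comap]
  show swap (fn s U) (T (fn s U)) ∈ qT _ _
  rw [swap, lift_T, qT, RingHom.mem_ker, genHom, lift_V]
  simp [redX, Ideal.Quotient.eq_zero_iff_mem.2 hf]

/-- Over `D` the points of the divisor specialize from the second generic point. -/
theorem genV_specializes {U : TA L} {z : Sp s hL} (hz : z ∈ gg s hL ⁻¹ᵁ U.opn) (hT : T (fn s U) ∈ prm s hL U z hz) :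
    genPt s hL (Sym.swp (fn s U)) (x := gg s hL z) hz ⤳ z := by
  by_cases hV : V (fn s U) ∈ prm s hL U z hz
  · refine (prm_le_iff s hL U (genPt_mem s hL _ _) hz).1 ?_
    have hf := T_mul_V_mem s hL hz hT
    haveI : ((prm s hL U z hz).comap (swap (fn s U))).IsPrime := Ideal.comap_isPrime _ _
    have h1 := eq_cross (fn s U) (bprm U (gg s hL z) hz) (P := (prm s hL U z hz).comap (swap (fn s U)))
      (by rw [Ideal.comap_comap, show (swap (fn s U)).comp (str (fn s U)) = str (fn s U) from RingHom.ext fun a => by simp [swap],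
        prm_comap])
      (by simpa [swap] using hV) (by simpa [swap] using hT) hf
    rw [prm_genPt]
    intro r hr
    have h2 := qT_le_cross (fn s U) _ hf hr
    rw [← h1, Ideal.mem_comap] at h2
    have e : swap (fn s U) ((Sym.swp (fn s U)).θ r) = r := swap_swap _ _
    rwa [e] at h2
  · exact genPt_specializes s hL _ hz hz rfl (by simpa [Sym.swp, swap] using hV)

variable {δ : X → ℤ} {δ' : Sp s hL → ℤ} (hc : Cyc.DeltaCompat (gg s hL) δ' δ)

include hc in
theorem deltaCompat_pp : Cyc.DeltaCompat (pp s hL i hD) (fun d => δ' (ip s hL d)) (fun d => δ (i d)) :=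
  deltaCompat_square (ip s hL) i (pp s hL i hD) (gg s hL) (pp_i s hL i hD) hc

include hc in
theorem hasRelDim_pp (hdim : Cyc.IsDimFun (Sp s hL) δ') : Cyc.HasRelDim (pp s hL i hD) 1 := by
  rw [FlatMor12.hasRelDim_iff]
  intro η hη
  have hg := (genInFibre_iff_isFibreMax (pp s hL i hD) η).2 hη
  have h1 := DeltaCompat.eq _ (deltaCompat_pp s hL i hD hc) η
  simp only at h1
  obtain ⟨U, hU⟩ := exists_TA (L := L) (x := gg s hL (ip s hL η)) hL
  have hT := (mem_range_ip s hL (z := ip s hL η) hU).1 ⟨η, rfl⟩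
  obtain ⟨η', hη'⟩ := genV_mem_range s hL hU (T_mul_V_mem s hL hU hT)
  have hsp := genV_specializes s hL hU hT
  rw [← hη'] at hsp
  have e : η' = η := hg η' (by
      refine i.isClosedEmbedding.injective ?_
      rw [pp_i_apply, pp_i_apply, hη', g_genPt])
    ((ip s hL).isClosedEmbedding.isInducing.specializes_iff.1 hsp)
  have h2 : δ' (ip s hL η) = δ (i (pp s hL i hD η)) + 1 := by
    rw [pp_i_apply, ← e, hη', delta_genPt s hL hc hdim, g_genPt]
  omega

/-- The section `v` on the divisor. -/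
noncomputable def vD : Γ((Scheme.Modules.pullback (ip s hL)).obj ((Scheme.Modules.pullback (gg s hL)).obj L), ⊤) :=
  pullSec (ip s hL) (U := ⊤) (vSec s hL)

theorem isGen_vD (U : TA L) :
    IsGen ((Scheme.Modules.pullback (ip s hL)).obj ((Scheme.Modules.pullback (gg s hL)).obj L))
      (ip s hL ⁻¹ᵁ (gg s hL ⁻¹ᵁ U.opn)) (pullSec (ip s hL) (pullSec (gg s hL) (gen U))) :=
  isGen_pullSec (ip s hL) (isGen_pullSec (gg s hL) (isGen_gen U) hL) (PicLoc.isInvertible_pullback _ hL)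

theorem coef_vD (U : TA L) :
    (isGen_vD s hL U).coef le_rfl (resM _ le_top (vD s hL)) = (ip s hL).app _ (vFn s hL U) := by
  refine (isGen_vD s hL U).coef_eq le_rfl ?_
  rw [resM_self, ← pullSec_smul, ← vSec_spec]
  exact (resM_pullSec _ _ _).symm

theorem invertible_M :
    PicF.IsInvertible ((Scheme.Modules.pullback (ip s hL)).obj ((Scheme.Modules.pullback (gg s hL)).obj L)) :=
  PicLoc.isInvertible_pullback _ (PicLoc.isInvertible_pullback _ hL)

/-- The zero section. -/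
noncomputable abbrev jz := (zsub _ (vD s hL)).subschemeι

theorem ker_app_jz (U : TA L) :
    RingHom.ker ((jz s hL).app (ip s hL ⁻¹ᵁ (gg s hL ⁻¹ᵁ U.opn))).hom =
      Ideal.span {(ip s hL).app _ (vFn s hL U)} := by
  rw [Scheme.IdealSheafData.ker_subschemeι_app _ ⟨_, (isAffineOpen_pre s hL U).preimage _⟩,
    zsub_ideal (invertible_M s hL) _ ⟨_, (isAffineOpen_pre s hL U).preimage _⟩ (isGen_vD s hL U), coef_vD]

theorem omega_vFn (U : TA L) (ω : Γ(Dp s hL, pp s hL i hD ⁻¹ᵁ (i ⁻¹ᵁ U.opn)) ≃+* Polynomial (Γ(X, U.opn) ⧸ Ideal.span {fn s U}))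
    (hω : ∀ r, ω (piP s hL i hD U r) = modT (fn s U) (Ideal.Quotient.mk _ r)) :
    ω ((Dp s hL).presheaf.map (eqToHom (preimage_pp s hL i hD U)).op ((ip s hL).app _ (vFn s hL U))) = Polynomial.X := by
  have e : piP s hL i hD U (V (fn s U)) =
      (Dp s hL).presheaf.map (eqToHom (preimage_pp s hL i hD U)).op ((ip s hL).app _ (vFn s hL U)) := by
    show (Dp s hL).presheaf.map _ ((ip s hL).app _ ((phi s hL U).symm _)) = _
    rw [← vFn_spec s hL U, ← phi_apply, RingEquiv.symm_apply_apply]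
  rw [← e, hω]
  simp [modT]

include hD in
theorem vD_regular (d : Dp s hL) :
    Function.Injective (fun a : (Dp s hL).presheaf.stalk d => a •
      (((Scheme.Modules.pullback (ip s hL)).obj ((Scheme.Modules.pullback (gg s hL)).obj L)).presheaf.germ ⊤ d trivial) (vD s hL)) := by
  obtain ⟨U, hU⟩ := exists_TA (L := L) (x := gg s hL (ip s hL d)) hL
  let W : (Dp s hL).Opens := ip s hL ⁻¹ᵁ (gg s hL ⁻¹ᵁ U.opn)
  have hW : IsAffineOpen W := (isAffineOpen_pre s hL U).preimage _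
  let v₀ : Γ(Dp s hL, W) := (ip s hL).app _ (vFn s hL U)
  have hreg : IsSMulRegular Γ(Dp s hL, W) v₀ := by
    obtain ⟨ω, hω⟩ := exists_omega s hL i hD U
    intro a b hab
    have hinj : Function.Injective (fun c => ω ((Dp s hL).presheaf.map (eqToHom (preimage_pp s hL i hD U)).op c)) :=
      ω.injective.comp (ConcreteCategory.bijective_of_isIso ((Dp s hL).presheaf.map (eqToHom (preimage_pp s hL i hD U)).op)).1
    refine hinj ?_
    have h := congrArg (fun c => ω ((Dp s hL).presheaf.map (eqToHom (preimage_pp s hL i hD U)).op c)) hab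
    simp only [smul_eq_mul, v₀, map_mul, omega_vFn s hL i hD U ω hω] at h
    refine Polynomial.ext fun n => ?_
    have h' := congrArg (fun P => P.coeff (n + 1)) h
    simpa [Polynomial.coeff_X_mul] using h'
  rw [show (((Scheme.Modules.pullback (ip s hL)).obj ((Scheme.Modules.pullback (gg s hL)).obj L)).presheaf.germ ⊤ d trivial)
    (vD s hL) = _ from germ_top_eq (vD s hL) (isGen_vD s hL U) (show d ∈ W from hU), coef_vD]
  intro a b hab
  simp only [smul_smul] at hab
  have h1 := (VarietyLib.gen_germ_bijective (isGen_vD s hL U) (show d ∈ W from hU)).1 hab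
  letI := (Dp s hL).presheaf.algebra_section_stalk ⟨d, (show d ∈ W from hU)⟩
  haveI := hW.isLocalization_stalk ⟨d, hU⟩
  haveI : Module.Flat Γ(Dp s hL, W) ((Dp s hL).presheaf.stalk d) :=
    IsLocalization.flat ((Dp s hL).presheaf.stalk d) (hW.primeIdealOf ⟨d, hU⟩).asIdeal.primeCompl
  have h2 : IsSMulRegular ((Dp s hL).presheaf.stalk d) ((Dp s hL).presheaf.germ W d hU v₀) :=
    IsSMulRegular.of_flat hreg
  exact h2 (by show _ * a = _ * b; rw [mul_comm, h1, mul_comm])

/-- The zero section maps isomorphically onto `D`. -/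
theorem isIso_jz_pp : IsIso (jz s hL ≫ pp s hL i hD) := by
  show MorphismProperty.isomorphisms Scheme.{u} (jz s hL ≫ pp s hL i hD)
  refine IsZariskiLocalAtTarget.of_iSup_eq_top (fun U : TA L => i ⁻¹ᵁ U.opn) ?_ fun U => ?_
  · rw [← Scheme.Hom.preimage_iSup, iSup_TA hL, Scheme.Hom.preimage_top]
  haveI : IsAffine ↑(i ⁻¹ᵁ U.opn) := U.aff.preimage i
  rw [HasAffineProperty.iff_of_isAffine (P := MorphismProperty.isomorphisms Scheme.{u})]
  refine ⟨(U.aff.preimage i).preimage (jz s hL ≫ pp s hL i hD), ?_⟩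
  rw [morphismRestrict_appTop]
  suffices h : IsIso ((jz s hL ≫ pp s hL i hD).app (i ⁻¹ᵁ U.opn)) by
    have key : ∀ V : D.Opens, V = i ⁻¹ᵁ U.opn → IsIso ((jz s hL ≫ pp s hL i hD).app V) := fun V hV => by subst hV; exact h
    exact @IsIso.comp_isIso _ _ _ _ _ _ _ (key _ (Scheme.Opens.ι_image_top (i ⁻¹ᵁ U.opn)))
      (((zsub _ (vD s hL)).subscheme.presheaf.mapIso (eqToIso (image_morphismRestrict_preimage _ _ _)).op).isIso_hom)
  obtain ⟨κ, hκ⟩ := exists_kappa s hL i hD U
  obtain ⟨ω, hω⟩ := exists_omega s hL i hD U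
  have hpp : ∀ b, ω ((pp s hL i hD).app (i ⁻¹ᵁ U.opn) b) = Polynomial.C (κ b) := fun b => by
    obtain ⟨a, rfl⟩ := piD_surjective i U b
    rw [hκ, ← piP_str, hω]
    simp [modT]
  have hv := omega_vFn s hL i hD U ω hω
  have hk : ∀ c, (jz s hL).app (pp s hL i hD ⁻¹ᵁ (i ⁻¹ᵁ U.opn)) c = 0 ↔ Polynomial.X ∣ ω c := fun c => by
    rw [← RingHom.mem_ker, ← hv, map_dvd_iff ω, ← Ideal.mem_span_singleton]
    have key : ∀ (W : (Dp s hL).Opens) (e : W = ip s hL ⁻¹ᵁ (gg s hL ⁻¹ᵁ U.opn)) (c : Γ(Dp s hL, W)),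
        c ∈ RingHom.ker ((jz s hL).app W).hom ↔
          c ∈ Ideal.span {(Dp s hL).presheaf.map (eqToHom e).op ((ip s hL).app _ (vFn s hL U))} := by
      rintro W rfl c
      rw [ker_app_jz, eqToHom_refl, op_id, (Dp s hL).presheaf.map_id]
      rfl
    exact key _ (preimage_pp s hL i hD U) c
  rw [ConcreteCategory.isIso_iff_bijective, Scheme.Hom.comp_app]
  refine ⟨fun a b hab => ?_, fun y => ?_⟩
  · have h0 : (jz s hL).app _ ((pp s hL i hD).app _ (a - b)) = 0 := by
      rw [map_sub, map_sub]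
      exact sub_eq_zero.2 hab
    obtain ⟨Q, hQ⟩ := (hk _).1 h0
    rw [hpp] at hQ
    have := congrArg (fun P => P.coeff 0) hQ
    simp at this
    exact sub_eq_zero.1 (κ.injective (by simpa using this))
  · obtain ⟨c, rfl⟩ := Scheme.Hom.app_surjective (jz s hL) _ ((U.aff.preimage i).preimage (pp s hL i hD)) y
    refine ⟨κ.symm ((ω c).coeff 0), ?_⟩
    show (jz s hL).app _ ((pp s hL i hD).app _ _) = _
    rw [← sub_eq_zero, ← map_sub, hk, map_sub, hpp, RingEquiv.apply_symm_apply, Polynomial.X_dvd_iff]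
    simp

end Groth.Agent.GysDef28
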