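import Groth.Agent.GysDef28.Div
import Groth.Agent.CycLib28.GysinMaps
import Groth.Agent.CycLib28.GysinFlat
import Groth.Agent.CycLib28.GysinBase
import Groth.Agent.CycLib28.C1CommuteApp
import Groth.Agent.CycLib28.C1Trivial
import Groth.Agent.CycLib28.PB.FlagLocal
import Groth.Agent.CycLib28.PB.GysinSquare
import Groth.Agent.CycLib28.PB.SubBundle
import Groth.Agent.CycLib28.FieldExt.PullEq
import Groth.Agent.CycLib28.FlatRat

/-!
# The deformation to a principal Gysin map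
-/

set_option autoImplicit false
set_option linter.style.haveILetI false
set_option linter.unusedSectionVars false
set_option backward.isDefEq.respectTransparency.types false
set_option maxHeartbeats 1000000

universe u

open CategoryTheory CategoryTheory.Limits AlgebraicGeometry Opposite TopologicalSpace IsLocalRing
open Groth.Agent.Coherent Groth.Agent.PicLib Groth.Agent.CycLim28 Groth.Agent.CycLib28

namespace Groth.Agent.GysDef28

variable {X D : Scheme.{u}} {L : X.Modules} (s : Γ(L, ⊤)) (hL : PicF.IsInvertible L)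
  (i : D ⟶ X) [IsClosedImmersion i] (hD : Cyc.IsZeroSchemeOf i L s)
  {δ : X → ℤ} (hX : Cyc.IsSetup X δ) {δ' : Sp s hL → ℤ} (hX' : Cyc.IsSetup (Sp s hL) δ')
  (hc : Cyc.DeltaCompat (gg s hL) δ' δ)

theorem map_stalkMap_le {A B : Scheme.{u}} (f : A ⟶ B) (a : A) :
    Ideal.map (f.stalkMap a).hom (maximalIdeal (B.presheaf.stalk (f a))) ≤ maximalIdeal (A.presheaf.stalk a) :=
  IsLocalRing.map_maximalIdeal_le _

theorem map_stalkMap_closed {A B : Scheme.{u}} (f : A ⟶ B) [IsClosedImmersion f] (a : A) :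
    Ideal.map (f.stalkMap a).hom (maximalIdeal (B.presheaf.stalk (f a))) = maximalIdeal (A.presheaf.stalk a) := by
  haveI : IsLocalHom (f.stalkMap a).hom := IsLocalHom.of_surjective _ (f.stalkMap_surjective _)
  rw [← IsLocalRing.maximalIdeal_comap (f.stalkMap a).hom, Ideal.map_comap_of_surjective _ (f.stalkMap_surjective _)]

theorem lenFibre_eq_one {A B : Scheme.{u}} (f : A ⟶ B) (a : A)
    (h : Ideal.map (f.stalkMap a).hom (maximalIdeal (B.presheaf.stalk (f a))) = maximalIdeal (A.presheaf.stalk a)) :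
    lenFibre f a = 1 := by
  rw [lenFibre, h, Module.length_eq_one_iff]
  exact isSimpleModule_iff_isCoatom.2 (IsLocalRing.maximalIdeal.isMaximal _).1

theorem genPt_congr {U : TA L} (S : Sym (fn s U)) {x x' : X} (e : x = x') (hx : x ∈ U.opn) (hx' : x' ∈ U.opn) :
    genPt s hL S hx = genPt s hL S hx' := by
  subst e; rfl

include hc hX' in
theorem lenFibre_pp {d : Dp s hL} (hd : δ' (ip s hL d) = δ (gg s hL (ip s hL d)) + 1) :
    lenFibre (pp s hL i hD) d = 1 ∧ lenFibre (gg s hL) (ip s hL d) = 1 := by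
  obtain ⟨U, hU⟩ := exists_TA (L := L) (x := gg s hL (ip s hL d)) hL
  have hT := (mem_range_ip s hL (z := ip s hL d) hU).1 ⟨d, rfl⟩
  have hz : ip s hL d = genPt s hL (Sym.swp (fn s U)) hU := by
    rcases eq_genPt s hL hc hX'.2.2 (U := U) (z := ip s hL d) hU hd with h | h
    · exfalso
      have h1 := coord_notMem_genPt s hL (Sym.id (fn s U)) (x := gg s hL (ip s hL d)) hU
      simp only [← h] at h1
      exact h1 hT
    · exact h
  have hm : Ideal.map ((gg s hL).stalkMap (ip s hL d)).hom (maximalIdeal (X.presheaf.stalk (gg s hL (ip s hL d)))) =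
      maximalIdeal ((Sp s hL).presheaf.stalk (ip s hL d)) := by
    have key : ∀ q, q = genPt s hL (Sym.swp (fn s U)) hU →
        Ideal.map ((gg s hL).stalkMap q).hom (maximalIdeal (X.presheaf.stalk (gg s hL q))) =
          maximalIdeal ((Sp s hL).presheaf.stalk q) := by
      rintro q rfl
      exact map_maximal_genPt s hL _ hU
    exact key _ hz
  refine ⟨lenFibre_eq_one _ _ (le_antisymm (map_stalkMap_le _ _) ?_), lenFibre_eq_one _ _ hm⟩
  have key : ∀ h : Dp s hL ⟶ X, h = pp s hL i hD ≫ i →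
      Ideal.map (h.stalkMap d).hom (maximalIdeal (X.presheaf.stalk (h d))) ≤
        Ideal.map ((pp s hL i hD).stalkMap d).hom (maximalIdeal (D.presheaf.stalk (pp s hL i hD d))) := by
    rintro h rfl
    rw [Scheme.Hom.stalkMap_comp]
    erw [CommRingCat.hom_comp, ← Ideal.map_map]
    exact Ideal.map_mono (map_stalkMap_le _ _)
  have h2 := key (ip s hL ≫ gg s hL) (pp_i s hL i hD).symm
  rw [Scheme.Hom.stalkMap_comp] at h2
  erw [CommRingCat.hom_comp, ← Ideal.map_map] at h2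
  refine le_trans ?_ h2
  rw [← map_stalkMap_closed (ip s hL) d, ← hm]
  rfl

include hc hX' in
/-- Pullback to the divisor is the restriction of the pullback. -/
theorem pullFun_pp (F : X → ℤ) (d : Dp s hL) :
    Cyc.pullFun (pp s hL i hD) (fun d => δ' (ip s hL d)) (fun d => δ (i d)) 1 (fun d => F (i d)) d =
      Cyc.pullFun (gg s hL) δ' δ 1 F (ip s hL d) := by
  simp only [Cyc.pullFun]
  rw [pp_i_apply]
  split_ifs with h
  · obtain ⟨h1, h2⟩ := lenFibre_pp s hL i hD hX' hc h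
    rw [show (Module.length _ _) = (1 : ℕ∞) from h1, show (Module.length _ _) = (1 : ℕ∞) from h2]
  · rfl

theorem specMap_germC {U : TA L} {ξ z : Sp s hL} (h : ξ ⤳ z) (hz : z ∈ gg s hL ⁻¹ᵁ U.opn) (r : GRing (fn s U)) :
    Cyc.specMap z ξ h (germC s hL U z hz r) =
      ((Sp s hL).residue ξ).hom (germC s hL U ξ (h.mem_open (gg s hL ⁻¹ᵁ U.opn).2 hz) r) := by
  obtain ⟨a, rfl⟩ := (bijective_secEquiv s hL U).2 r
  rw [germC_apply, germC_apply]
  show ((Sp s hL).residue ξ).hom (((Sp s hL).presheaf.stalkSpecializes h).hom _) = _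
  exact congrArg ((Sp s hL).residue ξ).hom (TopCat.Presheaf.germ_stalkSpecializes_apply _ _ _ _)

theorem residue_germC_ne_zero {U : TA L} {ξ : Sp s hL} (hξ : ξ ∈ gg s hL ⁻¹ᵁ U.opn) {r : GRing (fn s U)}
    (h : r ∉ prm s hL U ξ hξ) : ((Sp s hL).residue ξ).hom (germC s hL U ξ hξ r) ≠ 0 := fun h0 =>
  h ((IsLocalRing.residue_eq_zero_iff _).1 h0)

include hX' in
theorem ord_germC_unit {U : TA L} {ξ z : Sp s hL} (h : ξ ⤳ z) (hd : δ' z + 1 = δ' ξ) (hz : z ∈ gg s hL ⁻¹ᵁ U.opn)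
    {r : GRing (fn s U)} (hr : r ∉ prm s hL U z hz) :
    Cyc.ordAt z ξ h (((Sp s hL).residue ξ).hom (germC s hL U ξ (h.mem_open (gg s hL ⁻¹ᵁ U.opn).2 hz) r)) = 0 := by
  haveI := hX'.1
  rw [← specMap_germC s hL h hz]
  refine ordAt_unit hX'.2.2 h hd _ ?_
  by_contra hu
  exact hr ((IsLocalRing.mem_maximalIdeal _).2 hu)

include hX' in
theorem ord_germC_cross {U : TA L} (S : Sym (fn s U)) (o : GRing (fn s U)) {ξ z : Sp s hL} (h : ξ ⤳ z)
    (hd : δ' z + 1 = δ' ξ) (hz : z ∈ gg s hL ⁻¹ᵁ U.opn) (hT : T (fn s U) ∈ prm s hL U z hz)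
    (hV : V (fn s U) ∈ prm s hL U z hz) (hg : gg s hL ξ = gg s hL z)
    (hne : S.θ (T (fn s U)) ∉ prm s hL U ξ (h.mem_open (gg s hL ⁻¹ᵁ U.opn).2 hz))
    (ho : o ∈ prm s hL U ξ (h.mem_open (gg s hL ⁻¹ᵁ U.opn).2 hz))
    (hpair : Ideal.span {T (fn s U), V (fn s U)} ≤ Ideal.span {S.θ (T (fn s U)), o})
    (hθz : S.θ (T (fn s U)) ∈ prm s hL U z hz) :
    Cyc.ordAt z ξ h (((Sp s hL).residue ξ).hom
      (germC s hL U ξ (h.mem_open (gg s hL ⁻¹ᵁ U.opn).2 hz) (S.θ (T (fn s U))))) = 1 := by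
  haveI := hX'.1
  have hξ := h.mem_open (gg s hL ⁻¹ᵁ U.opn).2 hz
  rw [← specMap_germC s hL h hz]
  refine CycLib28.PB.ordAt_eq_one hX'.2.2 h hd _ hθz ?_ ?_
  · rw [specMap_germC]
    exact residue_germC_ne_zero s hL hξ hne
  rw [map_prm s hL U z hz]
  refine Ideal.map_le_iff_le_comap.2 fun r hr => ?_
  rw [Ideal.mem_comap]
  obtain ⟨a, ha⟩ : ∃ a, r - str (fn s U) a ∈ Ideal.span {T (fn s U), V (fn s U)} := by
    clear hr
    induction r using eq_induction (fn s U) with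
    | hC a => exact ⟨a, by simp⟩
    | hadd a b ha hb =>
      obtain ⟨a', ha'⟩ := ha
      obtain ⟨b', hb'⟩ := hb
      exact ⟨a' + b', by rw [map_add, add_sub_add_comm]; exact Ideal.add_mem _ ha' hb'⟩
    | hT a _ => exact ⟨0, by simpa using Ideal.mul_mem_left _ a (Ideal.subset_span (show T (fn s U) ∈ ({T (fn s U), V (fn s U)} : Set _) by simp))⟩
    | hV a _ => exact ⟨0, by simpa using Ideal.mul_mem_left _ a (Ideal.subset_span (show V (fn s U) ∈ ({T (fn s U), V (fn s U)} : Set _) by simp))⟩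
  have hspan : Ideal.span {T (fn s U), V (fn s U)} ≤ prm s hL U z hz :=
    Ideal.span_le.2 (by rintro x (rfl | rfl) <;> assumption)
  have hsa : str (fn s U) a ∈ prm s hL U z hz := by simpa using (prm s hL U z hz).sub_mem hr (hspan ha)
  have hsaξ : str (fn s U) a ∈ prm s hL U ξ hξ := by
    have e : bprm U (gg s hL ξ) hξ = bprm U (gg s hL z) hz := by congr 1
    rw [← Ideal.mem_comap, prm_comap, e, ← prm_comap s hL U z hz]
    exact hsa
  have hker : ∀ r' ∈ prm s hL U ξ hξ, germC s hL U z hz r' ∈ RingHom.ker (Cyc.specMap z ξ h) := fun r' hr' => by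
    rw [RingHom.mem_ker, specMap_germC]
    exact (IsLocalRing.residue_eq_zero_iff _).2 hr'
  rw [show r = (r - str (fn s U) a) + str (fn s U) a by ring, map_add]
  refine Ideal.add_mem _ ?_ (Ideal.mem_sup_left (hker _ hsaξ))
  obtain ⟨b, c, hbc⟩ := Ideal.mem_span_pair.1 (hpair ha)
  rw [← hbc, map_add, map_mul, map_mul]
  exact Ideal.add_mem _ (Ideal.mem_sup_right (Ideal.mul_mem_left _ _ (Ideal.mem_span_singleton_self _)))
    (Ideal.mem_sup_left (Ideal.mul_mem_left _ _ (hker _ ho)))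

theorem coef_vSec (U : TA L) :
    (isGen_pullSec (gg s hL) (isGen_gen U) hL).coef le_rfl (resM _ le_top (vSec s hL)) = vFn s hL U := by
  refine (isGen_pullSec (gg s hL) (isGen_gen U) hL).coef_eq le_rfl ?_
  rw [resM_self, vSec_spec]

theorem germ_vSec {U : TA L} {ξ : Sp s hL} (hξ : ξ ∈ gg s hL ⁻¹ᵁ U.opn) :
    ((Scheme.Modules.pullback (gg s hL)).obj L).presheaf.germ ⊤ ξ trivial (vSec s hL) =
      germC s hL U ξ hξ (V (fn s U)) •
        ((Scheme.Modules.pullback (gg s hL)).obj L).presheaf.germ (gg s hL ⁻¹ᵁ U.opn) ξ hξ (pullSec (gg s hL) (gen U)) := by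
  rw [germ_top_eq (vSec s hL) (isGen_pullSec (gg s hL) (isGen_gen U) hL) hξ, coef_vSec, germC_V]

theorem germ_tO {U : TA L} {ξ : Sp s hL} (hξ : ξ ∈ gg s hL ⁻¹ᵁ U.opn) :
    (Coh.structureModule (Sp s hL)).presheaf.germ ⊤ ξ trivial (tO s hL) =
      germC s hL U ξ hξ (T (fn s U)) • AssSch12.unitOne ξ := by
  rw [germC_T]
  exact AssSch12.germ_eq_smul_unitOne ξ (U := ⊤) trivial (tSec s hL)

theorem germ_s {U : TA L} {x : X} (hx : x ∈ U.opn) :
    L.presheaf.germ ⊤ x trivial s = X.presheaf.germ U.opn x hx (fn s U) • L.presheaf.germ U.opn x hx (gen U) :=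
  germ_top_eq s (isGen_gen U) hx

/-- The rational sections used on the `L` side. -/
noncomputable def secA (u : (ξ : Sp s hL) → Cyc.secFibre ((Scheme.Modules.pullback (gg s hL)).obj L) ξ)
    (ξ : Sp s hL) : Cyc.secFibre ((Scheme.Modules.pullback (gg s hL)).obj L) ξ :=
  open Classical in
  if ξ ∈ Set.range (ip s hL) ∧
      (Submodule.Quotient.mk (((Scheme.Modules.pullback (gg s hL)).obj L).presheaf.germ ⊤ ξ trivial (vSec s hL)) :
        Cyc.secFibre ((Scheme.Modules.pullback (gg s hL)).obj L) ξ) ≠ 0 then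
    Submodule.Quotient.mk (((Scheme.Modules.pullback (gg s hL)).obj L).presheaf.germ ⊤ ξ trivial (vSec s hL))
  else u ξ

/-- The rational sections used on the `O` side. -/
noncomputable def secB (w' : (ξ : Sp s hL) → Cyc.secFibre (Coh.structureModule (Sp s hL)) ξ)
    (ξ : Sp s hL) : Cyc.secFibre (Coh.structureModule (Sp s hL)) ξ :=
  open Classical in
  if ξ ∈ Set.range (ip s hL) then Submodule.Quotient.mk ((1 : (Sp s hL).presheaf.stalk ξ) • AssSch12.unitOne ξ)
  else Cyc.gysinChoice (Coh.structureModule (Sp s hL)) (tO s hL) w' ξ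

section compare

variable (w : (x : X) → Cyc.secFibre L x) (hw : ∀ x, w x ≠ 0)
  (w' : (ξ : Sp s hL) → Cyc.secFibre (Coh.structureModule (Sp s hL)) ξ)
  (u : (ξ : Sp s hL) → Cyc.secFibre ((Scheme.Modules.pullback (gg s hL)).obj L) ξ)
  (hword : ∀ (ξ x : Sp s hL) (h : ξ ⤳ x) (_ : δ' x + 1 = δ' ξ) (U : X.Opens) (e : Γ(L, U)) (_ : IsGen L U e)
    (_ : gg s hL x ∈ U) (hU : gg s hL ξ ∈ U) (φ : X.presheaf.stalk (gg s hL ξ)),
    Cyc.gysinChoice L s w (gg s hL ξ) = Submodule.Quotient.mk (φ • L.presheaf.germ U (gg s hL ξ) hU e) →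
    Cyc.secOrdAt ((Scheme.Modules.pullback (gg s hL)).obj L) ξ x h (u ξ) =
      Cyc.ordAt x ξ h (((gg s hL).residueFieldMap ξ).hom ((X.residue (gg s hL ξ)).hom φ)))

variable {U : TA L} {ξ z : Sp s hL} (h : ξ ⤳ z) (hd : δ' z + 1 = δ' ξ) (hz : z ∈ gg s hL ⁻¹ᵁ U.opn)

include hX' hd in
theorem ordA_in (hT : T (fn s U) ∈ prm s hL U ξ (h.mem_open (gg s hL ⁻¹ᵁ U.opn).2 hz))
    (hV : V (fn s U) ∉ prm s hL U ξ (h.mem_open (gg s hL ⁻¹ᵁ U.opn).2 hz)) :
    Cyc.secDivFun δ' ((Scheme.Modules.pullback (gg s hL)).obj L) ξ (secA s hL u ξ) z =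
      Cyc.ordAt z ξ h (((Sp s hL).residue ξ).hom (germC s hL U ξ (h.mem_open (gg s hL ⁻¹ᵁ U.opn).2 hz) (V (fn s U)))) := by
  haveI := hX'.1
  have hξ := h.mem_open (gg s hL ⁻¹ᵁ U.opn).2 hz
  have hne := residue_germC_ne_zero s hL hξ hV
  have hv : (Submodule.Quotient.mk (((Scheme.Modules.pullback (gg s hL)).obj L).presheaf.germ ⊤ ξ trivial (vSec s hL)) :
      Cyc.secFibre ((Scheme.Modules.pullback (gg s hL)).obj L) ξ) ≠ 0 := by
    rw [germ_vSec s hL hξ, Ne, mk_eq_zero_iff_gen (isGen_pullSec (gg s hL) (isGen_gen U) hL)]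
    exact hne
  rw [Cyc.secDivFun, dif_pos ⟨h, hd⟩, secA, if_pos ⟨(mem_range_ip s hL hξ).2 hT, hv⟩, germ_vSec s hL hξ]
  exact secOrdAt_gen hX'.2.2 (PicLoc.isInvertible_pullback _ hL) h hd (isGen_pullSec (gg s hL) (isGen_gen U) hL) hz hξ _ hne

include hX' hd in
theorem ordB_in (hT : T (fn s U) ∈ prm s hL U ξ (h.mem_open (gg s hL ⁻¹ᵁ U.opn).2 hz)) :
    Cyc.secDivFun δ' (Coh.structureModule (Sp s hL)) ξ (secB s hL w' ξ) z = 0 := by
  haveI := hX'.1
  rw [Cyc.secDivFun, dif_pos ⟨h, hd⟩, secB, if_pos ((mem_range_ip s hL _).2 hT),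
    secOrdAt_structureModule hX'.2.2 h hd 1 (by simp), map_one, ordAt_one hX'.2.2 h hd]

include hX' hd in
theorem ordB_out (hT : T (fn s U) ∉ prm s hL U ξ (h.mem_open (gg s hL ⁻¹ᵁ U.opn).2 hz)) :
    Cyc.secDivFun δ' (Coh.structureModule (Sp s hL)) ξ (secB s hL w' ξ) z =
      Cyc.ordAt z ξ h (((Sp s hL).residue ξ).hom (germC s hL U ξ (h.mem_open (gg s hL ⁻¹ᵁ U.opn).2 hz) (T (fn s U)))) := by
  haveI := hX'.1
  have hξ := h.mem_open (gg s hL ⁻¹ᵁ U.opn).2 hz
  have hout : ξ ∉ Set.range (ip s hL) := fun h' => hT ((mem_range_ip s hL hξ).1 h')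
  have hne := residue_germC_ne_zero s hL hξ hT
  rw [Cyc.secDivFun, dif_pos ⟨h, hd⟩, secB, if_neg hout, Cyc.gysinChoice, if_pos, germ_tO s hL hξ,
    secOrdAt_structureModule hX'.2.2 h hd _ hne]
  intro h0
  exact hout ((isZero_ip s hL).1.symm ▸ h0)

include hX' hword hd in
theorem ordA_out_unit (hT : T (fn s U) ∉ prm s hL U ξ (h.mem_open (gg s hL ⁻¹ᵁ U.opn).2 hz))
    (hV : V (fn s U) ∉ prm s hL U z hz) :
    Cyc.secDivFun δ' ((Scheme.Modules.pullback (gg s hL)).obj L) ξ (secA s hL u ξ) z =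
      Cyc.ordAt z ξ h (((Sp s hL).residue ξ).hom (germC s hL U ξ (h.mem_open (gg s hL ⁻¹ᵁ U.opn).2 hz) (T (fn s U)))) := by
  haveI := hX'.1
  have hξ := h.mem_open (gg s hL ⁻¹ᵁ U.opn).2 hz
  have hout : ξ ∉ Set.range (ip s hL) := fun h' => hT ((mem_range_ip s hL hξ).1 h')
  have hVξ : V (fn s U) ∉ prm s hL U ξ hξ := fun h' => hV ((prm_le_iff s hL U hξ hz).2 h h')
  have hf : fn s U ∉ bprm U (gg s hL ξ) hξ := by
    rw [← prm_comap, Ideal.mem_comap, ← T_mul_V]
    exact fun h' => ((prm_isPrime s hL U ξ hξ).mem_or_mem h').elim hT hVξ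
  have hgs : Cyc.gysinChoice L s w (gg s hL ξ) = Submodule.Quotient.mk
      (X.presheaf.germ U.opn (gg s hL ξ) hξ (fn s U) • L.presheaf.germ U.opn (gg s hL ξ) hξ (gen U)) := by
    rw [Cyc.gysinChoice, if_pos, germ_s s hξ]
    rw [germ_s s hξ, Ne, mk_eq_zero_iff_gen (isGen_gen U)]
    exact fun h0 => hf ((IsLocalRing.residue_eq_zero_iff _).1 h0)
  rw [Cyc.secDivFun, dif_pos ⟨h, hd⟩, secA, if_neg (fun h' => hout h'.1),
    hword ξ z h hd U.opn (gen U) (isGen_gen U) hz hξ _ hgs]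
  rw [show ((gg s hL).residueFieldMap ξ).hom ((X.residue (gg s hL ξ)).hom (X.presheaf.germ U.opn (gg s hL ξ) hξ (fn s U))) =
      ((Sp s hL).residue ξ).hom (germC s hL U ξ hξ (str (fn s U) (fn s U))) by
    rw [germC_str]
    exact ConcreteCategory.congr_hom (Scheme.residue_residueFieldMap (gg s hL) ξ) _]
  rw [← T_mul_V, map_mul, map_mul, ordAt_mul hX'.2.2 h hd (residue_germC_ne_zero s hL hξ hT)
    (residue_germC_ne_zero s hL hξ hVξ), ord_germC_unit s hL hX' h hd hz hV, add_zero]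

include hX' hword hw hd in
theorem ordA_out_cross (hT : T (fn s U) ∉ prm s hL U ξ (h.mem_open (gg s hL ⁻¹ᵁ U.opn).2 hz))
    (hg : gg s hL ξ = gg s hL z) :
    Cyc.secDivFun δ' ((Scheme.Modules.pullback (gg s hL)).obj L) ξ (secA s hL u ξ) z = 0 := by
  haveI := hX'.1
  have hξ := h.mem_open (gg s hL ⁻¹ᵁ U.opn).2 hz
  have hout : ξ ∉ Set.range (ip s hL) := fun h' => hT ((mem_range_ip s hL hξ).1 h')
  have hgne := gysinChoice_ne_zero L s w hw (gg s hL ξ)
  obtain ⟨m, hm⟩ := Submodule.Quotient.mk_surjective _ (Cyc.gysinChoice L s w (gg s hL ξ))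
  obtain ⟨φ, hφ⟩ := (VarietyLib.gen_germ_bijective (isGen_gen U) hξ).2 m
  replace hφ : φ • L.presheaf.germ U.opn (gg s hL ξ) hξ (gen U) = m := hφ
  rw [← hm, ← hφ] at hgne
  have hu : IsUnit φ := by
    by_contra hu
    exact hgne ((mk_eq_zero_iff_gen (isGen_gen U) hξ φ).2
      ((IsLocalRing.residue_eq_zero_iff φ).2 ((IsLocalRing.mem_maximalIdeal _).2 hu)))
  have hs : gg s hL ξ ⤳ gg s hL z := h.map (gg s hL).continuous
  have hs' : gg s hL z ⤳ gg s hL ξ := specializes_of_eq hg.symm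
  let φ₀ := (X.presheaf.stalkSpecializes hs').hom φ
  have hφ₀ : (X.presheaf.stalkSpecializes hs).hom φ₀ = φ := by
    show (X.presheaf.stalkSpecializes hs' ≫ X.presheaf.stalkSpecializes hs).hom φ = φ
    rw [TopCat.Presheaf.stalkSpecializes_comp]
    simp
  rw [Cyc.secDivFun, dif_pos ⟨h, hd⟩, secA, if_neg (fun h' => hout h'.1),
    hword ξ z h hd U.opn (gen U) (isGen_gen U) hz hξ φ (by rw [← hm, ← hφ]),
    show ((gg s hL).residueFieldMap ξ).hom ((X.residue (gg s hL ξ)).hom φ) =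
      Cyc.specMap z ξ h (((gg s hL).stalkMap z).hom φ₀) by
      conv_lhs => rw [← hφ₀]
      refine (ConcreteCategory.congr_hom (Scheme.residue_residueFieldMap (gg s hL) ξ) _).trans ?_
      exact congrArg ((Sp s hL).residue ξ).hom (Scheme.Hom.stalkSpecializes_stalkMap_apply (gg s hL) ξ z h φ₀)]
  exact ordAt_unit hX'.2.2 h hd _ ((hu.map _).map _)

end compare

include hX' hc in
/-- The two sides agree on the divisor. -/
theorem compare (k : ℤ) (hX : Cyc.IsSetup X δ) (α : AlgebraicCycle X ℤ) (hα : α ∈ Cyc.Zk X δ (k + 1))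
    (w : (x : X) → Cyc.secFibre L x) (hw : ∀ x, w x ≠ 0)
    (w' : (ξ : Sp s hL) → Cyc.secFibre (Coh.structureModule (Sp s hL)) ξ)
    (u : (ξ : Sp s hL) → Cyc.secFibre ((Scheme.Modules.pullback (gg s hL)).obj L) ξ)
    (hword : ∀ (ξ x : Sp s hL) (h : ξ ⤳ x) (_ : δ' x + 1 = δ' ξ) (U : X.Opens) (e : Γ(L, U)) (_ : IsGen L U e)
      (_ : gg s hL x ∈ U) (hU : gg s hL ξ ∈ U) (φ : X.presheaf.stalk (gg s hL ξ)),
      Cyc.gysinChoice L s w (gg s hL ξ) = Submodule.Quotient.mk (φ • L.presheaf.germ U (gg s hL ξ) hU e) →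
      Cyc.secOrdAt ((Scheme.Modules.pullback (gg s hL)).obj L) ξ x h (u ξ) =
        Cyc.ordAt x ξ h (((gg s hL).residueFieldMap ξ).hom ((X.residue (gg s hL ξ)).hom φ)))
    (d : Dp s hL) :
    Cyc.c1CapFun δ' ((Scheme.Modules.pullback (gg s hL)).obj L) (Cyc.pullFun (gg s hL) δ' δ 1 ⇑α) (secA s hL u) (ip s hL d) =
      Cyc.c1CapFun δ' (Coh.structureModule (Sp s hL)) (Cyc.pullFun (gg s hL) δ' δ 1 ⇑α) (secB s hL w') (ip s hL d) := by
  haveI := hX'.1
  set z := ip s hL d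
  set β := Cyc.pullFun (gg s hL) δ' δ 1 ⇑α
  obtain ⟨U, hU⟩ := exists_TA (L := L) (x := gg s hL z) hL
  have hz : z ∈ gg s hL ⁻¹ᵁ U.opn := hU
  have hTz : T (fn s U) ∈ prm s hL U z hz := (mem_range_ip s hL hz).1 ⟨d, rfl⟩
  have hno : ∀ (M : (Sp s hL).Modules) (v : (ξ : Sp s hL) → Cyc.secFibre M ξ) (ξ : Sp s hL),
      β ξ * Cyc.secDivFun δ' M ξ (v ξ) z ≠ 0 → β ξ ≠ 0 ∧ ∃ h : ξ ⤳ z, δ' z + 1 = δ' ξ := by
    intro M v ξ hne
    refine ⟨left_ne_zero_of_mul hne, ?_⟩
    have h := right_ne_zero_of_mul hne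
    rw [Cyc.secDivFun] at h
    split_ifs at h with hh
    · exact ⟨hh.1, hh.2⟩
    · exact absurd rfl h
  by_cases hV : V (fn s U) ∈ prm s hL U z hz
  · -- the crossing: both sums are the multiplicity of one of the two lines
    have hzx : δ' z = δ (gg s hL z) := delta_cross s hL hc hz hTz hV
    have hf := T_mul_V_mem s hL hz hTz
    have hcase : ∀ ξ, β ξ ≠ 0 → ∀ h : ξ ⤳ z, δ' z + 1 = δ' ξ →
        ξ = genPt s hL (Sym.id (fn s U)) hU ∨ ξ = genPt s hL (Sym.swp (fn s U)) hU := by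
      intro ξ hβ h hd
      have hξ : ξ ∈ gg s hL ⁻¹ᵁ U.opn := h.mem_open (gg s hL ⁻¹ᵁ U.opn).2 hz
      simp only [β, Cyc.pullFun] at hβ
      split_ifs at hβ with h1
      · have he : gg s hL ξ = gg s hL z := by
          by_contra hne
          have := (hX.2.2 _ _ (h.map (gg s hL).continuous) hne).1
          omega
        rw [← genPt_congr s hL (Sym.id (fn s U)) he hξ hU, ← genPt_congr s hL (Sym.swp (fn s U)) he hξ hU]
        exact eq_genPt s hL hc hX'.2.2 hξ h1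
      · exact absurd rfl hβ
    have hval : ∀ S : Sym (fn s U), β (genPt s hL S hU) = α (gg s hL z) := fun S => by
      simp only [β, Cyc.pullFun]
      rw [if_pos (by rw [delta_genPt s hL hc hX'.2.2 S hU, g_genPt])]
      rw [show (Module.length _ _) = (1 : ℕ∞) from lenFibre_genPt s hL S hU]
      simp [g_genPt s hL S hU]
    have hI := coord_notMem_genPt s hL (Sym.id (fn s U)) (x := gg s hL z) hU
    have hS := coord_notMem_genPt s hL (Sym.swp (fn s U)) (x := gg s hL z) hU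
    have hVI : V (fn s U) ∈ prm s hL U (genPt s hL (Sym.id (fn s U)) hU) (genPt_mem s hL _ hU) := by
      rw [prm_genPt, Ideal.mem_comap]
      show V (fn s U) ∈ qT _ _
      rw [qT, RingHom.mem_ker, genHom, lift_V]
      simp [redX, Ideal.Quotient.eq_zero_iff_mem.2 hf]
    have hTS : T (fn s U) ∈ prm s hL U (genPt s hL (Sym.swp (fn s U)) hU) (genPt_mem s hL _ hU) :=
      (mem_range_ip s hL (genPt_mem s hL _ hU)).1 (genV_mem_range s hL hU hf)
    have hswT : (Sym.swp (fn s U)).θ (T (fn s U)) = V (fn s U) := by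
      show swap (fn s U) (T (fn s U)) = _
      rw [swap, lift_T]
    have hsI : genPt s hL (Sym.id (fn s U)) hU ⤳ z := by
      rcases genT_specializes s hL hU hz rfl hTz with h | h
      · exact h
      · exact absurd hV h
    have hsS : genPt s hL (Sym.swp (fn s U)) hU ⤳ z := genV_specializes s hL hz hTz
    have hdI : δ' z + 1 = δ' (genPt s hL (Sym.id (fn s U)) hU) := by rw [delta_genPt s hL hc hX'.2.2, hzx]
    have hdS : δ' z + 1 = δ' (genPt s hL (Sym.swp (fn s U)) hU) := by rw [delta_genPt s hL hc hX'.2.2, hzx]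
    have hA : Cyc.c1CapFun δ' ((Scheme.Modules.pullback (gg s hL)).obj L) β (secA s hL u) z = α (gg s hL z) := by
      rw [Cyc.c1CapFun, finsum_eq_single _ (genPt s hL (Sym.swp (fn s U)) hU)]
      · rw [hval, ordA_in s hL hX' u hsS hdS hz hTS (hswT ▸ hS)]
        have h1 := ord_germC_cross s hL hX' (Sym.swp (fn s U)) (T (fn s U)) hsS hdS hz hTz hV
          (g_genPt s hL _ hU) hS hTS (Ideal.span_mono (by rw [hswT]; exact (Set.pair_comm _ _).le)) (by rw [hswT]; exact hV)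
        simp only [hswT] at h1
        rw [h1, mul_one]
      · intro ξ hne
        by_contra h0
        obtain ⟨hb, h, hd⟩ := hno _ _ ξ h0
        rcases hcase ξ hb h hd with rfl | rfl
        · refine h0 ?_
          rw [ordA_out_cross s hL hX' w hw u hword h hd hz hI (g_genPt s hL _ hU), mul_zero]
        · exact hne rfl
    have hB : Cyc.c1CapFun δ' (Coh.structureModule (Sp s hL)) β (secB s hL w') z = α (gg s hL z) := by
      rw [Cyc.c1CapFun, finsum_eq_single _ (genPt s hL (Sym.id (fn s U)) hU)]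
      · rw [hval, ordB_out s hL hX' w' hsI hdI hz hI]
        have h1 := ord_germC_cross s hL hX' (Sym.id (fn s U)) (V (fn s U)) hsI hdI hz hTz hV
          (g_genPt s hL _ hU) hI hVI le_rfl hTz
        exact (congrArg (α (gg s hL z) * ·) h1).trans (mul_one _)
      · intro ξ hne
        by_contra h0
        obtain ⟨hb, h, hd⟩ := hno _ _ ξ h0
        rcases hcase ξ hb h hd with rfl | rfl
        · exact hne rfl
        · refine h0 ?_
          rw [ordB_in s hL hX' w' h hd hz hTS, mul_zero]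
    rw [hA, hB]
  · -- away from the crossing the terms agree
    refine finsum_congr fun ξ => ?_
    by_cases hh : ξ ⤳ z ∧ δ' z + 1 = δ' ξ
    swap
    · simp only [Cyc.secDivFun, dif_neg hh]
    congr 1
    obtain ⟨h, hd⟩ := hh
    by_cases hT : T (fn s U) ∈ prm s hL U ξ (h.mem_open (gg s hL ⁻¹ᵁ U.opn).2 hz)
    · rw [ordB_in s hL hX' w' h hd hz hT, ordA_in s hL hX' u h hd hz hT
        (fun h' => hV ((prm_le_iff s hL U _ hz).2 h h')), ord_germC_unit s hL hX' h hd hz hV]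
    · rw [ordB_out s hL hX' w' h hd hz hT, ordA_out_unit s hL hX' w u hword h hd hz hT hV]

include hX hX' hc in
theorem gysin_compat (k : ℤ) (α : AlgebraicCycle X ℤ) (hα : α ∈ Cyc.Zk X δ (k + 1))
    (w : (x : X) → Cyc.secFibre L x) (hw : ∀ x, w x ≠ 0)
    (w' : (ξ : Sp s hL) → Cyc.secFibre (Coh.structureModule (Sp s hL)) ξ) (hw' : ∀ ξ, w' ξ ≠ 0)
    (ζ₁ ζ₂ : AlgebraicCycle (Dp s hL) ℤ)
    (h₁ : ⇑ζ₁ = Cyc.pullFun (pp s hL i hD) (fun d => δ' (ip s hL d)) (fun d => δ (i d)) 1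
      (fun d => Cyc.c1CapFun δ L ⇑α (Cyc.gysinChoice L s w) (i d)))
    (h₂ : ∀ d, ζ₂ d = Cyc.c1CapFun δ' (Coh.structureModule (Sp s hL)) (Cyc.pullFun (gg s hL) δ' δ 1 ⇑α)
      (Cyc.gysinChoice (Coh.structureModule (Sp s hL)) (tO s hL) w') (ip s hL d)) :
    Cyc.RatEquiv (fun d => δ' (ip s hL d)) (k + 1) ζ₁ ζ₂ := by
  classical
  haveI := hX.1
  haveI := hX'.1
  haveI : IsLocallyNoetherian (Dp s hL) := LocallyOfFiniteType.isLocallyNoetherian (ip s hL)
  have hrel : Cyc.HasRelDim (gg s hL) 1 := hasRelDim_gg s hL hc hX'.2.2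
  have hcc : ∀ x, GenInFibre (gg s hL) x → δ' x = δ (gg s hL x) + 1 := fun x hx => by
    rw [delta_of_hasRelDim _ hrel hc x hx]; push_cast; ring
  obtain ⟨β, hβ⟩ := exists_pullback_cycle (gg s hL) δ' δ 1 hcc α
  have hβk : β ∈ Cyc.Zk (Sp s hL) δ' (k + 1 + 1) := by
    intro x hx
    rw [hβ, Cyc.pullFun]
    split_ifs with h
    · rw [hα (gg s hL x) (fun e => hx (by omega)), zero_mul]
    · rfl
  obtain ⟨u, hu, hword, heq⟩ := c1CapFun_pullback_section (gg s hL) hX'.2.2 hX.2.2 1 hcc hL α _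
    (gysinChoice_ne_zero L s w hw)
  have hL' := PicLoc.isInvertible_pullback (gg s hL) hL
  have hA : ∀ ξ, secA s hL u ξ ≠ 0 := fun ξ => by
    rw [secA]
    split_ifs with h
    · exact h.2
    · exact hu ξ
  have hB : ∀ ξ, secB s hL w' ξ ≠ 0 := fun ξ => by
    rw [secB]
    split_ifs with h
    · intro h0
      have := residue_eq_of_mk_eq ξ 1 0 (by rw [h0, zero_smul]; rfl)
      simp at this
    · exact gysinChoice_ne_zero _ _ w' hw' ξ
  obtain ⟨cA, hcA⟩ := exists_c1Cap_cycle hX'.2.2 hL' β _ hA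
  obtain ⟨γA, hγA⟩ := exists_restrict_cycle (ip s hL) cA
  have h1 : Cyc.RatEquiv (fun d => δ' (ip s hL d)) (k + 1) ζ₁ γA :=
    gysin_indep_closed hX'.2.2 (ip s hL) hL' (k + 1) β hβk u (secA s hL u) (fun ξ _ => hu ξ) (fun ξ _ => hA ξ)
      (fun ξ hξ x => by rw [secA, if_neg (fun h => hξ h.1)]) ζ₁ γA
      (fun d => by rw [h₁, pullFun_pp s hL i hD hX' hc, heq, hβ]) (fun d => by rw [hγA, hcA])
  have h2 : Cyc.RatEquiv (fun d => δ' (ip s hL d)) (k + 1) γA ζ₂ :=
    gysin_indep_closed hX'.2.2 (ip s hL) AmpleLib.isInvertible_structureModule (k + 1) β hβk (secB s hL w')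
      (Cyc.gysinChoice (Coh.structureModule (Sp s hL)) (tO s hL) w') (fun ξ _ => hB ξ)
      (fun ξ _ => gysinChoice_ne_zero _ _ w' hw' ξ)
      (fun ξ hξ x => by rw [secB, if_neg hξ]) γA ζ₂
      (fun d => by rw [hγA, hcA, hβ, compare s hL hX' hc k hX α hα w hw w' u hword d])
      (fun d => by rw [h₂, hβ])
  exact CycLib28.PB.ratEquiv_trans h1 h2

include hX hX' hc in
theorem pullFun_injective (k : ℤ) (β : AlgebraicCycle D ℤ) (hβ : β ∈ Cyc.Zk D (fun d => δ (i d)) k)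
    (β' : AlgebraicCycle (Dp s hL) ℤ)
    (hβ' : ⇑β' = Cyc.pullFun (pp s hL i hD) (fun d => δ' (ip s hL d)) (fun d => δ (i d)) 1 ⇑β)
    (h0 : Cyc.RatEquivZero (fun d => δ' (ip s hL d)) (k + 1) β') : Cyc.RatEquivZero (fun d => δ (i d)) k β := by
  classical
  haveI := hX.1
  haveI := hX'.1
  haveI : IsLocallyNoetherian (Dp s hL) := LocallyOfFiniteType.isLocallyNoetherian (ip s hL)
  haveI : IsLocallyNoetherian D := LocallyOfFiniteType.isLocallyNoetherian i
  have hdP := isDimFun_comp_closedImmersion (ip s hL) hX'.2.2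
  have hdD := isDimFun_comp_closedImmersion i hX.2.2
  have hcp := deltaCompat_pp s hL i hD hc
  have hrel : Cyc.HasRelDim (pp s hL i hD) (0 + 1) := hasRelDim_pp s hL i hD hc hX'.2.2
  haveI hq : IsIso (jz s hL ≫ pp s hL i hD) := isIso_jz_pp s hL i hD
  have hrD : Cyc.HasRelDim (jz s hL ≫ pp s hL i hD) 0 :=
    Groth.Agent.CycLib28.FieldExt.hasRelDim_zero_of_finite _
  let M := (Scheme.Modules.pullback (ip s hL)).obj ((Scheme.Modules.pullback (gg s hL)).obj L)
  have hM : PicF.IsInvertible M := invertible_M s hL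
  obtain ⟨t, ht⟩ : ∃ t : (ξ : Dp s hL) → Cyc.secFibre M ξ, ∀ ξ, t ξ ≠ 0 := by
    choose V hV e he using fun ξ : Dp s hL => PicLib.exists_isGen hM ξ
    refine ⟨fun ξ => Submodule.Quotient.mk ((1 : (Dp s hL).presheaf.stalk ξ) • M.presheaf.germ (V ξ) ξ (hV ξ) (e ξ)), fun ξ h0 => ?_⟩
    rw [mk_eq_zero_iff_gen (he ξ), map_one] at h0
    exact one_ne_zero h0
  let j := jz s hL
  let q := j ≫ pp s hL i hD
  have hqc : Cyc.DeltaCompat q (fun z => δ' (ip s hL (j z))) (fun e => δ (i e)) := by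
    have := deltaCompat_square j (𝟙 D) q (pp s hL i hD) (Category.comp_id _) hcp
    simpa using this
  obtain ⟨γ₀, hγ₀⟩ := exists_restrict_cycle q β
  have key : ∀ z, γ₀ z = Cyc.c1CapFun (fun d => δ' (ip s hL d)) M ⇑β' (Cyc.gysinChoice M (vD s hL) t) (j z) := by
    intro z
    have hk : β ∈ Cyc.Zk D (fun d => δ (i d)) (k - 1 + 1) := by rwa [sub_add_cancel]
    have h := gysin_relative hdP hdD (pp s hL i hD) 0 hrel hcp hM (vD s hL) (vD_regular s hL i hD) j
      (isZeroSchemeOf_zsub hM (vD s hL)) hrD (k - 1) β hk t z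
    have e : ⇑β' = Cyc.pullFun (pp s hL i hD) (fun d => δ' (ip s hL d)) (fun d => δ (i d)) (((0 : ℕ) : ℤ) + 1) ⇑β := by
      simpa using hβ'
    rw [hγ₀, e, h, pullFun_eq q _ _ _ (fun y _ => by
      rw [Nat.cast_zero, add_zero]
      exact CycLib28.PB.delta_closedImmersion q hqc y), PB.lenFibre_iso]
    simp
  have hg := gysin_ratEquivZero hdP hM (vD s hL) j (isZeroSchemeOf_zsub hM (vD s hL)) k β' h0 t ht γ₀ key
  haveI : IsLocallyNoetherian (zsub M (vD s hL)).subscheme := LocallyOfFiniteType.isLocallyNoetherian j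
  have h := map_ratEquivZero (isDimFun_comp_closedImmersion j hdP) hdD q hqc k γ₀ hg
  have e : AlgebraicCycle.map q (fun z => δ' (ip s hL (j z))) (fun e => δ (i e)) γ₀ = β := by
    refine DFunLike.ext _ _ fun e => ?_
    obtain ⟨z, rfl⟩ := q.homeomorph.surjective e
    show (AlgebraicCycle.map q _ _ γ₀) (q z) = β (q z)
    have hδq : (fun z => δ' (ip s hL (j z))) = fun z => δ (i (q z)) := funext fun z => CycLib28.PB.delta_closedImmersion q hqc z
    rw [hδq]
    exact (map_closedImmersion_apply q (fun e => δ (i e)) γ₀ z).trans (hγ₀ z)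
  rwa [e] at h

end Groth.Agent.GysDef28
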