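import Groth.Agent.GysDef28.Space
import Groth.Agent.CycLib28.RelDim
import Groth.Agent.CycLib28.PB.ChernExist

/-!
# The points of `t v = s`
-/

set_option autoImplicit false
set_option linter.style.haveILetI false
set_option linter.unusedSectionVars false
set_option backward.isDefEq.respectTransparency.types false
set_option maxHeartbeats 1000000

universe u

open CategoryTheory CategoryTheory.Limits AlgebraicGeometry Opposite TopologicalSpace IsLocalRing
open Groth.Agent.Coherent Groth.Agent.PicLib Groth.Agent.CycLim28 Groth.Agent.CycLib28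

namespace Groth.Agent.GysDef28

/-- The two symmetries used below. -/
structure Sym {A : Type u} [CommRing A] (f : A) where
  θ : GRing f →+* GRing f
  invol : ∀ r, θ (θ r) = r
  θ_str : ∀ a, θ (str f a) = str f a

noncomputable def Sym.id {A : Type u} [CommRing A] (f : A) : Sym f := ⟨RingHom.id _, fun _ => rfl, fun _ => rfl⟩

noncomputable def Sym.swp {A : Type u} [CommRing A] (f : A) : Sym f := ⟨swap f, swap_swap f, fun a => by simp [swap]⟩

variable {X : Scheme.{u}} {L : X.Modules} (s : Γ(L, ⊤)) (hL : PicF.IsInvertible L)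

theorem isAffineOpen_pre (U : TA L) : IsAffineOpen ((gg s hL) ⁻¹ᵁ U.opn) := U.aff.preimage (gg s hL)

/-- The chart equivalence. -/
noncomputable def phi (U : TA L) : Γ(Sp s hL, (gg s hL) ⁻¹ᵁ U.opn) ≃+* GRing (fn s U) :=
  RingEquiv.ofBijective (secEquiv s hL U).hom (bijective_secEquiv s hL U)

theorem phi_apply (U : TA L) (a : Γ(Sp s hL, (gg s hL) ⁻¹ᵁ U.opn)) : phi s hL U a = secEquiv s hL U a := rfl

/-- The germ of an element of the chart ring. -/
noncomputable def germC (U : TA L) (z : Sp s hL) (hz : z ∈ (gg s hL) ⁻¹ᵁ U.opn) : GRing (fn s U) →+* (Sp s hL).presheaf.stalk z :=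
  ((Sp s hL).presheaf.germ ((gg s hL) ⁻¹ᵁ U.opn) z hz).hom.comp (phi s hL U).symm.toRingHom

theorem germC_apply (U : TA L) (z : Sp s hL) (hz : z ∈ (gg s hL) ⁻¹ᵁ U.opn) (a : Γ(Sp s hL, (gg s hL) ⁻¹ᵁ U.opn)) :
    germC s hL U z hz (secEquiv s hL U a) = (Sp s hL).presheaf.germ ((gg s hL) ⁻¹ᵁ U.opn) z hz a := by
  show ((Sp s hL).presheaf.germ ((gg s hL) ⁻¹ᵁ U.opn) z hz).hom ((phi s hL U).symm (phi s hL U a)) = _
  rw [RingEquiv.symm_apply_apply]

theorem germC_str (U : TA L) (z : Sp s hL) (hz : z ∈ (gg s hL) ⁻¹ᵁ U.opn) (a : Γ(X, U.opn)) :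
    germC s hL U z hz (str (fn s U) a) = ((gg s hL).stalkMap z).hom (X.presheaf.germ U.opn ((gg s hL) z) hz a) := by
  rw [← secEquiv_app s hL U a, germC_apply]
  exact (Scheme.Hom.germ_stalkMap_apply (gg s hL) U.opn z hz a).symm

theorem germC_T (U : TA L) (z : Sp s hL) (hz : z ∈ (gg s hL) ⁻¹ᵁ U.opn) :
    germC s hL U z hz (T (fn s U)) = (Sp s hL).presheaf.germ ⊤ z trivial (tSec s hL) := by
  rw [← tSec_spec s hL U, germC_apply]
  exact TopCat.Presheaf.germ_res_apply (Sp s hL).presheaf (homOfLE le_top) z hz _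

theorem germC_V (U : TA L) (z : Sp s hL) (hz : z ∈ (gg s hL) ⁻¹ᵁ U.opn) :
    germC s hL U z hz (V (fn s U)) = (Sp s hL).presheaf.germ ((gg s hL) ⁻¹ᵁ U.opn) z hz (vFn s hL U) := by
  rw [← vFn_spec s hL U, germC_apply]

/-- The prime of a point on a chart. -/
noncomputable def prm (U : TA L) (z : Sp s hL) (hz : z ∈ (gg s hL) ⁻¹ᵁ U.opn) : Ideal (GRing (fn s U)) :=
  (maximalIdeal ((Sp s hL).presheaf.stalk z)).comap (germC s hL U z hz)

instance prm_isPrime (U : TA L) (z : Sp s hL) (hz : z ∈ (gg s hL) ⁻¹ᵁ U.opn) : (prm s hL U z hz).IsPrime :=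
  Ideal.comap_isPrime _ _

theorem prm_eq (U : TA L) (z : Sp s hL) (hz : z ∈ (gg s hL) ⁻¹ᵁ U.opn) :
    prm s hL U z hz = ((isAffineOpen_pre s hL U).primeIdealOf ⟨z, hz⟩).asIdeal.comap (phi s hL U).symm.toRingHom := by
  rw [IsAffineOpen.primeIdealOf_eq_map_closedPoint]
  rfl

theorem prm_le_iff (U : TA L) {z z' : Sp s hL} (hz : z ∈ (gg s hL) ⁻¹ᵁ U.opn) (hz' : z' ∈ (gg s hL) ⁻¹ᵁ U.opn) :
    prm s hL U z hz ≤ prm s hL U z' hz' ↔ z ⤳ z' := by
  have hW := isAffineOpen_pre s hL U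
  have h1 : z ⤳ z' ↔ hW.primeIdealOf ⟨z, hz⟩ ⤳ hW.primeIdealOf ⟨z', hz'⟩ := by
    have h2 := hW.fromSpec.isOpenEmbedding.isInducing.specializes_iff (x := hW.primeIdealOf ⟨z, hz⟩)
      (y := hW.primeIdealOf ⟨z', hz'⟩)
    rw [hW.fromSpec_primeIdealOf, hW.fromSpec_primeIdealOf] at h2
    exact h2
  rw [h1, ← PrimeSpectrum.le_iff_specializes, prm_eq, prm_eq]
  refine ⟨fun h a ha => ?_, fun h => Ideal.comap_mono h⟩
  have := h (show phi s hL U a ∈ Ideal.comap (phi s hL U).symm.toRingHom _ by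
    rw [Ideal.mem_comap]
    simpa using ha)
  simpa using this

theorem eq_of_prm_eq (U : TA L) {z z' : Sp s hL} (hz : z ∈ (gg s hL) ⁻¹ᵁ U.opn) (hz' : z' ∈ (gg s hL) ⁻¹ᵁ U.opn)
    (h : prm s hL U z hz = prm s hL U z' hz') : z = z' :=
  (((prm_le_iff s hL U hz hz').1 h.le).antisymm ((prm_le_iff s hL U hz' hz).1 h.ge)).eq

theorem exists_prm_eq (U : TA L) (P : Ideal (GRing (fn s U))) [P.IsPrime] :
    ∃ (z : Sp s hL) (hz : z ∈ (gg s hL) ⁻¹ᵁ U.opn), prm s hL U z hz = P := by
  have hW := isAffineOpen_pre s hL U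
  let q : PrimeSpectrum Γ(Sp s hL, (gg s hL) ⁻¹ᵁ U.opn) := ⟨P.comap (phi s hL U).toRingHom, Ideal.comap_isPrime _ _⟩
  have hmem : hW.fromSpec q ∈ (gg s hL) ⁻¹ᵁ U.opn := by
    have : hW.fromSpec q ∈ Set.range hW.fromSpec := ⟨q, rfl⟩
    rwa [hW.range_fromSpec] at this
  refine ⟨hW.fromSpec q, hmem, ?_⟩
  have : hW.primeIdealOf ⟨hW.fromSpec q, hmem⟩ = q :=
    hW.fromSpec.isOpenEmbedding.injective (by rw [hW.fromSpec_primeIdealOf])
  rw [prm_eq, this]
  ext a
  show phi s hL U ((phi s hL U).symm a) ∈ P ↔ a ∈ P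
  rw [RingEquiv.apply_symm_apply]

theorem map_prm (U : TA L) (z : Sp s hL) (hz : z ∈ (gg s hL) ⁻¹ᵁ U.opn) :
    maximalIdeal ((Sp s hL).presheaf.stalk z) = (prm s hL U z hz).map (germC s hL U z hz) := by
  have hW := isAffineOpen_pre s hL U
  letI := (Sp s hL).presheaf.algebra_section_stalk ⟨z, hz⟩
  haveI := hW.isLocalization_stalk ⟨z, hz⟩
  refine le_antisymm ?_ (Ideal.map_comap_le)
  rw [← IsLocalization.AtPrime.map_eq_maximalIdeal (hW.primeIdealOf ⟨z, hz⟩).asIdeal ((Sp s hL).presheaf.stalk z)]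
  refine Ideal.map_le_iff_le_comap.2 fun a ha => ?_
  show (Sp s hL).presheaf.germ ((gg s hL) ⁻¹ᵁ U.opn) z hz a ∈ (prm s hL U z hz).map (germC s hL U z hz)
  rw [← germC_apply s hL U z hz a]
  refine Ideal.mem_map_of_mem _ ?_
  rw [prm_eq]
  show (phi s hL U).symm (phi s hL U a) ∈ (hW.primeIdealOf ⟨z, hz⟩).asIdeal
  rwa [RingEquiv.symm_apply_apply]

/-- The prime of the image point. -/
noncomputable def bprm (U : TA L) (x : X) (hx : x ∈ U.opn) : Ideal Γ(X, U.opn) :=
  (maximalIdeal (X.presheaf.stalk x)).comap (X.presheaf.germ U.opn x hx).hom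

instance bprm_isPrime (U : TA L) (x : X) (hx : x ∈ U.opn) : (bprm U x hx).IsPrime := Ideal.comap_isPrime _ _

theorem prm_comap (U : TA L) (z : Sp s hL) (hz : z ∈ (gg s hL) ⁻¹ᵁ U.opn) :
    (prm s hL U z hz).comap (str (fn s U)) = bprm U ((gg s hL) z) hz := by
  ext a
  show germC s hL U z hz (str (fn s U) a) ∈ maximalIdeal _ ↔ _
  rw [germC_str, IsLocalRing.mem_maximalIdeal, mem_nonunits_iff, isUnit_map_iff]
  rfl

theorem eq_of_bprm_eq (U : TA L) {x x' : X} (hx : x ∈ U.opn) (hx' : x' ∈ U.opn) (h : bprm U x hx = bprm U x' hx') :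
    x = x' := by
  have e : ∀ (y : X) (hy : y ∈ U.opn), bprm U y hy = (U.aff.primeIdealOf ⟨y, hy⟩).asIdeal := fun y hy => by
    rw [IsAffineOpen.primeIdealOf_eq_map_closedPoint]; rfl
  rw [e, e] at h
  have := congrArg U.aff.fromSpec (PrimeSpectrum.ext h)
  rwa [U.aff.fromSpec_primeIdealOf, U.aff.fromSpec_primeIdealOf] at this

section sym

variable {U : TA L} (S : Sym (fn s U))

/-- The generic points of the two lines. -/
theorem exists_gen {x : X} (hx : x ∈ U.opn) :
    ∃ (q : Sp s hL) (hq : q ∈ (gg s hL) ⁻¹ᵁ U.opn),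
      prm s hL U q hq = (qT (fn s U) (bprm U x hx)).comap S.θ ∧ (gg s hL) q = x := by
  haveI : ((qT (fn s U) (bprm U x hx)).comap S.θ).IsPrime := Ideal.comap_isPrime _ _
  obtain ⟨q, hq, he⟩ := exists_prm_eq s hL U ((qT (fn s U) (bprm U x hx)).comap S.θ)
  refine ⟨q, hq, he, eq_of_bprm_eq U hq hx ?_⟩
  rw [← prm_comap s hL U q hq, he]
  ext a
  show S.θ (str (fn s U) a) ∈ qT (fn s U) (bprm U x hx) ↔ _
  rw [S.θ_str]
  exact str_mem_qT _ _ a

/-- The generic point. -/
noncomputable def genPt {x : X} (hx : x ∈ U.opn) : Sp s hL := (exists_gen s hL S hx).choose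

theorem genPt_mem {x : X} (hx : x ∈ U.opn) : genPt s hL S hx ∈ (gg s hL) ⁻¹ᵁ U.opn := (exists_gen s hL S hx).choose_spec.choose

theorem prm_genPt {x : X} (hx : x ∈ U.opn) :
    prm s hL U (genPt s hL S hx) (genPt_mem s hL S hx) = (qT (fn s U) (bprm U x hx)).comap S.θ :=
  (exists_gen s hL S hx).choose_spec.choose_spec.1

theorem g_genPt {x : X} (hx : x ∈ U.opn) : (gg s hL) (genPt s hL S hx) = x :=
  (exists_gen s hL S hx).choose_spec.choose_spec.2

theorem coord_notMem_genPt {x : X} (hx : x ∈ U.opn) :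
    S.θ (T (fn s U)) ∉ prm s hL U (genPt s hL S hx) (genPt_mem s hL S hx) := by
  rw [prm_genPt, Ideal.mem_comap, S.invol]
  exact T_notMem_qT _ _

theorem genPt_specializes {x : X} (hx : x ∈ U.opn) {z : Sp s hL} (hz : z ∈ (gg s hL) ⁻¹ᵁ U.opn) (he : (gg s hL) z = x)
    (h : S.θ (T (fn s U)) ∉ prm s hL U z hz) : genPt s hL S hx ⤳ z := by
  refine (prm_le_iff s hL U (genPt_mem s hL S hx) hz).1 ?_
  rw [prm_genPt]
  haveI : ((prm s hL U z hz).comap S.θ).IsPrime := Ideal.comap_isPrime _ _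
  intro r hr
  have h1 := qT_le (fn s U) (bprm U x hx) (P := (prm s hL U z hz).comap S.θ) ?_ h hr
  · simpa [S.invol] using h1
  · refine Ideal.map_le_iff_le_comap.2 fun a ha => ?_
    show S.θ (str _ a) ∈ prm s hL U z hz
    subst he
    rw [S.θ_str, ← Ideal.mem_comap, prm_comap]
    exact ha

/-- At the generic point the maximal ideal comes from the base. -/
theorem map_maximal_genPt {x : X} (hx : x ∈ U.opn) :
    Ideal.map ((gg s hL).stalkMap (genPt s hL S hx)).hom (maximalIdeal (X.presheaf.stalk ((gg s hL) (genPt s hL S hx)))) =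
      maximalIdeal ((Sp s hL).presheaf.stalk (genPt s hL S hx)) := by
  refine le_antisymm (Ideal.map_le_iff_le_comap.2 (fun a ha => ?_)) ?_
  · rw [Ideal.mem_comap, IsLocalRing.mem_maximalIdeal, mem_nonunits_iff, isUnit_map_iff]
    exact ha
  rw [map_prm s hL U _ (genPt_mem s hL S hx)]
  refine Ideal.map_le_iff_le_comap.2 fun r hr => ?_
  set q := genPt s hL S hx
  have hr' : S.θ r ∈ qT (fn s U) (bprm U x hx) := by rw [prm_genPt] at hr; exact hr
  obtain ⟨N, hN⟩ := pow_T_mul_mem_map _ _ hr'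
  have hN' : S.θ (T (fn s U)) ^ N * r ∈ (bprm U x hx).map (str (fn s U)) := by
    have := Ideal.mem_map_of_mem S.θ hN
    rwa [Ideal.map_map, show S.θ.comp (str (fn s U)) = str (fn s U) from RingHom.ext S.θ_str, map_mul, map_pow,
      S.invol] at this
  have hu : IsUnit (germC s hL U q (genPt_mem s hL S hx) (S.θ (T (fn s U)))) := by
    by_contra h
    exact coord_notMem_genPt s hL S hx ((IsLocalRing.mem_maximalIdeal _).2 h)
  have h2 := Ideal.mem_map_of_mem (germC s hL U q (genPt_mem s hL S hx)) hN'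
  rw [map_mul, map_pow, Ideal.map_map] at h2
  have h3 : (bprm U x hx).map ((germC s hL U q (genPt_mem s hL S hx)).comp (str (fn s U))) ≤
      Ideal.map ((gg s hL).stalkMap q).hom (maximalIdeal (X.presheaf.stalk ((gg s hL) q))) :=
    Ideal.map_le_iff_le_comap.2 fun a ha => by
      show germC s hL U q (genPt_mem s hL S hx) (str (fn s U) a) ∈ Ideal.map ((gg s hL).stalkMap q).hom (maximalIdeal (X.presheaf.stalk ((gg s hL) q)))
      rw [germC_str]
      refine Ideal.mem_map_of_mem _ ?_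
      have : bprm U ((gg s hL) q) (genPt_mem s hL S hx) = bprm U x hx := by congr 1; exact g_genPt s hL S hx
      rw [← this] at ha
      exact ha
  exact (Ideal.unit_mul_mem_iff_mem _ (hu.pow N)).1 (h3 h2)

theorem lenFibre_genPt {x : X} (hx : x ∈ U.opn) : lenFibre (gg s hL) (genPt s hL S hx) = 1 := by
  rw [lenFibre, map_maximal_genPt]
  haveI : IsSimpleModule ((Sp s hL).presheaf.stalk (genPt s hL S hx))
      ((Sp s hL).presheaf.stalk (genPt s hL S hx) ⧸ maximalIdeal ((Sp s hL).presheaf.stalk (genPt s hL S hx))) :=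
    isSimpleModule_iff_isCoatom.mpr (IsLocalRing.maximalIdeal.isMaximal _).out
  exact Module.length_eq_one _ _

end sym

section delta

variable {δ : X → ℤ} {δ' : Sp s hL → ℤ} (hc : Cyc.DeltaCompat (gg s hL) δ' δ)

include hc in
theorem delta_eq_of_retract (U : TA L) (z : Sp s hL) (hz : z ∈ (gg s hL) ⁻¹ᵁ U.opn)
    (h : ∀ r : GRing (fn s U), ∃ a, r - str (fn s U) a ∈ prm s hL U z hz) : δ' z = δ ((gg s hL) z) := by
  have hsurj : Function.Surjective ((gg s hL).residueFieldMap z).hom := by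
    intro κ
    obtain ⟨σ, rfl⟩ := (Sp s hL).residue_surjective z κ
    have hW := isAffineOpen_pre s hL U
    letI := (Sp s hL).presheaf.algebra_section_stalk ⟨z, hz⟩
    haveI := hW.isLocalization_stalk ⟨z, hz⟩
    obtain ⟨⟨r, w⟩, hrw⟩ := IsLocalization.surj (hW.primeIdealOf ⟨z, hz⟩).asIdeal.primeCompl σ
    obtain ⟨a, ha⟩ := h (phi s hL U r)
    obtain ⟨b, hb⟩ := h (phi s hL U w.1)
    let R0 := ((Sp s hL).residue z).hom.comp (germC s hL U z hz)
    let ψ := ((gg s hL).residueFieldMap z).hom.comp ((X.residue ((gg s hL) z)).hom.comp (X.presheaf.germ U.opn ((gg s hL) z) hz).hom)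
    have hψ : ∀ c, R0 (str (fn s U) c) = ψ c := fun c => by
      show (Sp s hL).residue z (germC s hL U z hz (str _ c)) = _
      rw [germC_str]
      exact (ConcreteCategory.congr_hom (Scheme.residue_residueFieldMap (gg s hL) z) _).symm
    have hR : ∀ r c, r - str (fn s U) c ∈ prm s hL U z hz → R0 r = ψ c := fun r c hc => by
      rw [← hψ, ← sub_eq_zero, ← map_sub]
      exact (IsLocalRing.residue_eq_zero_iff _).2 hc
    have hr0 : ∀ c, R0 (phi s hL U c) = (Sp s hL).residue z ((Sp s hL).presheaf.germ _ z hz c) := fun c => by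
      show (Sp s hL).residue z (germC s hL U z hz (phi s hL U c)) = _
      rw [phi_apply, germC_apply]
    have hw : R0 (phi s hL U w.1) ≠ 0 := by
      rw [hr0]
      exact ((IsLocalization.map_units ((Sp s hL).presheaf.stalk z) w).map ((Sp s hL).residue z).hom).ne_zero
    refine ⟨(X.residue ((gg s hL) z)) (X.presheaf.germ U.opn ((gg s hL) z) hz a) /
      (X.residue ((gg s hL) z)) (X.presheaf.germ U.opn ((gg s hL) z) hz b), ?_⟩
    have h1 : (Sp s hL).residue z σ * R0 (phi s hL U w.1) = R0 (phi s hL U r) := by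
      rw [hr0, hr0, ← map_mul]
      exact congrArg _ hrw
    rw [map_div₀]
    show ψ a / ψ b = _
    rw [← hR _ _ ha, ← hR _ _ hb, ← h1, mul_div_assoc, div_self hw, mul_one]
  rw [DeltaCompat.eq (gg s hL) hc z, DimLib.trdegHom]
  letI := ((gg s hL).residueFieldMap z).hom.toAlgebra
  haveI : Algebra.IsAlgebraic (X.residueField ((gg s hL) z)) ((Sp s hL).residueField z) :=
    ⟨fun c => by obtain ⟨a, rfl⟩ := hsurj c; exact isAlgebraic_algebraMap a⟩
  rw [trdeg_eq_zero]
  simp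

variable (hdim : Cyc.IsDimFun (Sp s hL) δ')

include hc hdim in
theorem delta_genPt {U : TA L} (S : Sym (fn s U)) {x : X} (hx : x ∈ U.opn) :
    δ' (genPt s hL S hx) = δ x + 1 := by
  haveI : (((bprm U x hx).comap (sect (fn s U))).comap S.θ).IsPrime :=
    Ideal.IsPrime.comap (hK := Ideal.comap_isPrime _ _) _
  obtain ⟨m, hm, hme⟩ := exists_prm_eq s hL U (((bprm U x hx).comap (sect (fn s U))).comap S.θ)
  have hgm : (gg s hL) m = x := eq_of_bprm_eq U hm hx (by
    rw [← prm_comap s hL U m hm, hme]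
    ext a
    simp [Ideal.mem_comap, S.θ_str, sect])
  have hle : genPt s hL S hx ⤳ m := by
    refine (prm_le_iff s hL U (genPt_mem s hL S hx) hm).1 ?_
    rw [prm_genPt, hme]
    exact Ideal.comap_mono (qT_le_sect _ _)
  have hne : genPt s hL S hx ≠ m := by
    intro e
    have h1 : prm s hL U (genPt s hL S hx) (genPt_mem s hL S hx) = prm s hL U m hm := by congr 1
    have h2 : S.θ (T (fn s U) - 1) ∈ prm s hL U m hm := by
      rw [hme, Ideal.mem_comap, S.invol]
      simp [sect]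
    rw [← h1, prm_genPt, Ideal.mem_comap, S.invol, show T (fn s U) - 1 = aT (fn s U) (Polynomial.X - 1) by simp [aT],
      aT_mem_qT] at h2
    exact (bprm U x hx).ne_top_iff_one.1 (Ideal.IsPrime.ne_top inferInstance) (by simpa [Polynomial.coeff_one] using h2 1)
  have hmd : δ' m = δ x := by
    rw [delta_eq_of_retract s hL hc U m hm (fun r => ⟨sect _ (S.θ r), ?_⟩), hgm]
    rw [hme, Ideal.mem_comap, map_sub, S.θ_str, Ideal.mem_comap, map_sub]
    simp [sect]
  have h2 := (hdim _ _ hle hne).2 fun y h1 h3 => ?_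
  · omega
  have hy : y ∈ (gg s hL) ⁻¹ᵁ U.opn := h3.mem_open ((gg s hL) ⁻¹ᵁ U.opn).2 hm
  have hgy : (gg s hL) y = x := by
    have e1 : x ⤳ (gg s hL) y := (g_genPt s hL S hx) ▸ h1.map (gg s hL).continuous
    have e2 : (gg s hL) y ⤳ x := hgm ▸ h3.map (gg s hL).continuous
    exact (e2.antisymm e1).eq
  by_cases hA : prm s hL U y hy ≤ prm s hL U (genPt s hL S hx) (genPt_mem s hL S hx)
  · exact Or.inl (((prm_le_iff s hL U hy (genPt_mem s hL S hx)).1 hA).antisymm h1).eq
  refine Or.inr (eq_of_prm_eq s hL U hy hm ?_)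
  haveI : ((prm s hL U y hy).comap S.θ).IsPrime := Ideal.comap_isPrime _ _
  have l1 := (prm_le_iff s hL U (genPt_mem s hL S hx) hy).2 h1
  have l3 := (prm_le_iff s hL U hy hm).2 h3
  rw [prm_genPt] at l1 hA
  rw [hme] at l3 ⊢
  have key := qT_covBy_sect (fn s U) (bprm U x hx) (P := (prm s hL U y hy).comap S.θ)
    (fun r hr => by simpa [S.invol] using l3 hr)
    (fun h => hA fun r hr => by simpa [Ideal.mem_comap] using h (show S.θ r ∈ (prm s hL U y hy).comap S.θ by simpa [S.invol] using hr))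
    (fun r hr => l1 (show S.θ r ∈ (qT _ _).comap S.θ by simpa [S.invol] using hr))
  rw [← key]
  ext r
  simp [Ideal.mem_comap, S.invol]

theorem T_mul_V_mem {U : TA L} {z : Sp s hL} (hz : z ∈ (gg s hL) ⁻¹ᵁ U.opn) (hT : T (fn s U) ∈ prm s hL U z hz) :
    fn s U ∈ bprm U ((gg s hL) z) hz := by
  rw [← prm_comap, Ideal.mem_comap, ← T_mul_V]
  exact Ideal.mul_mem_right _ _ hT

include hc in
theorem delta_cross {U : TA L} {z : Sp s hL} (hz : z ∈ (gg s hL) ⁻¹ᵁ U.opn) (hT : T (fn s U) ∈ prm s hL U z hz)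
    (hV : V (fn s U) ∈ prm s hL U z hz) : δ' z = δ ((gg s hL) z) := by
  refine delta_eq_of_retract s hL hc U z hz fun r => ?_
  induction r using eq_induction (fn s U) with
  | hC a => exact ⟨a, by simp⟩
  | hadd a b ha hb =>
    obtain ⟨a', ha'⟩ := ha
    obtain ⟨b', hb'⟩ := hb
    exact ⟨a' + b', by rw [map_add, add_sub_add_comm]; exact Ideal.add_mem _ ha' hb'⟩
  | hT a _ => exact ⟨0, by simpa using Ideal.mul_mem_left _ a hT⟩
  | hV a _ => exact ⟨0, by simpa using Ideal.mul_mem_left _ a hV⟩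

theorem genT_specializes {U : TA L} {x : X} (hx : x ∈ U.opn) {z : Sp s hL} (hz : z ∈ (gg s hL) ⁻¹ᵁ U.opn) (he : (gg s hL) z = x)
    (hT : T (fn s U) ∈ prm s hL U z hz) : genPt s hL (Sym.id (fn s U)) hx ⤳ z ∨ V (fn s U) ∉ prm s hL U z hz := by
  by_cases hV : V (fn s U) ∈ prm s hL U z hz
  · refine Or.inl ((prm_le_iff s hL U (genPt_mem s hL _ hx) hz).1 ?_)
    subst he
    have hf := T_mul_V_mem s hL hz hT
    rw [prm_genPt, eq_cross (fn s U) (bprm U ((gg s hL) z) hz) (P := prm s hL U z hz) (prm_comap s hL U z hz) hT hV hf]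
    exact qT_le_cross _ _ hf
  · exact Or.inr hV

/-- Every point specializes from one of the two generic points. -/
theorem exists_genPt_specializes {U : TA L} {x : X} (hx : x ∈ U.opn) {z : Sp s hL} (hz : z ∈ (gg s hL) ⁻¹ᵁ U.opn)
    (he : (gg s hL) z = x) : genPt s hL (Sym.id (fn s U)) hx ⤳ z ∨ genPt s hL (Sym.swp (fn s U)) hx ⤳ z := by
  by_cases hT : T (fn s U) ∈ prm s hL U z hz
  · rcases genT_specializes s hL hx hz he hT with h | h
    · exact Or.inl h
    · refine Or.inr (genPt_specializes s hL _ hx hz he ?_)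
      simpa [Sym.swp, swap] using h
  · exact Or.inl (genPt_specializes s hL _ hx hz he (by simpa [Sym.id] using hT))

theorem exists_TA {x : X} (hL : PicF.IsInvertible L) : ∃ U : TA L, x ∈ U.opn := by
  obtain ⟨y, hy⟩ := (taCover (L := L) hL).covers x
  exact ⟨(taCover hL).idx x, hy.subst (motive := fun z => z ∈ ((taCover hL).idx x).opn) y.2⟩

include hc hdim in
theorem hasRelDim_gg : Cyc.HasRelDim (gg s hL) 1 := by
  rw [FlatMor12.hasRelDim_iff]
  intro η hη
  have hg := (genInFibre_iff_isFibreMax (gg s hL) η).2 hη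
  obtain ⟨U, hU⟩ := exists_TA (L := L) (x := (gg s hL) η) hL
  have key : ∀ S : Sym (fn s U), genPt s hL S hU ⤳ η → (DimLib.trdegHom ((gg s hL).residueFieldMap η).hom) = 1 := by
    intro S h
    have e : genPt s hL S hU = η := hg _ (g_genPt s hL S hU) h
    have h1 := DeltaCompat.eq (gg s hL) hc η
    have h2 : δ' η = δ ((gg s hL) η) + 1 := by
      conv_lhs => rw [← e]
      exact delta_genPt s hL hc hdim S hU
    omega
  rcases exists_genPt_specializes s hL hU (z := η) hU rfl with h | h <;> exact key _ h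

include hc hdim in
/-- The points of relative dimension one are the two generic points. -/
theorem eq_genPt {U : TA L} {z : Sp s hL} (hz : z ∈ (gg s hL) ⁻¹ᵁ U.opn) (hd : δ' z = δ ((gg s hL) z) + 1) :
    z = genPt s hL (Sym.id (fn s U)) hz ∨ z = genPt s hL (Sym.swp (fn s U)) hz := by
  rcases exists_genPt_specializes s hL (U := U) (x := (gg s hL) z) hz hz rfl with h | h
  · left
    by_contra hne
    have := (hdim _ _ h (Ne.symm hne)).1
    rw [delta_genPt s hL hc hdim _ _] at this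
    omega
  · right
    by_contra hne
    have := (hdim _ _ h (Ne.symm hne)).1
    rw [delta_genPt s hL hc hdim _ _] at this
    omega

end delta

end Groth.Agent.GysDef28
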