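import Mathlib

/-!
# The ring `A[T, V]/(T V - f)`
-/

set_option autoImplicit false
set_option linter.style.haveILetI false
set_option backward.isDefEq.respectTransparency.types false
set_option linter.unusedSectionVars false
set_option maxHeartbeats 1000000

universe u

namespace Groth.Agent.GysDef28

open MvPolynomial

variable {A : Type u} [CommRing A] (f : A)

/-- The equation. -/
noncomputable def rel : Ideal (MvPolynomial (Fin 2) A) := Ideal.span {X 0 * X 1 - C f}

/-- `A[T, V]/(T V - f)`. -/
abbrev GRing : Type u := MvPolynomial (Fin 2) A ⧸ rel f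

noncomputable def str : A →+* GRing f := (Ideal.Quotient.mk _).comp C

noncomputable def T : GRing f := Ideal.Quotient.mk _ (X 0)

noncomputable def V : GRing f := Ideal.Quotient.mk _ (X 1)

theorem T_mul_V : T f * V f = str f f := by
  rw [T, V, ← map_mul]
  exact Ideal.Quotient.eq.2 (Ideal.subset_span rfl)

section lift

variable {B : Type*} [CommRing B] (a : A →+* B) (t v : B) (h : t * v = a f)

noncomputable def lift : GRing f →+* B :=
  Ideal.Quotient.lift (rel f) (eval₂Hom a ![t, v]) fun z hz => by
    refine RingHom.mem_ker.1 ((Ideal.span_le.2 ?_) hz)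
    rintro _ rfl
    simp [RingHom.mem_ker, h]

@[simp] theorem lift_str (r : A) : lift f a t v h (str f r) = a r := by simp [lift, str]

@[simp] theorem lift_T : lift f a t v h (T f) = t := by simp [lift, T]

@[simp] theorem lift_V : lift f a t v h (V f) = v := by simp [lift, V]

theorem hom_ext {φ ψ : GRing f →+* B} (h0 : ∀ r, φ (str f r) = ψ (str f r)) (hT : φ (T f) = ψ (T f))
    (hV : φ (V f) = ψ (V f)) : φ = ψ :=
  Ideal.Quotient.ringHom_ext (MvPolynomial.ringHom_ext h0 fun i => by fin_cases i <;> assumption)

end lift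

/-- Exchanging `T` and `V`. -/
noncomputable def swap : GRing f →+* GRing f := lift f (str f) (V f) (T f) (by rw [mul_comm, T_mul_V])

theorem swap_swap (z : GRing f) : swap f (swap f z) = z := by
  refine RingHom.congr_fun (hom_ext f (φ := (swap f).comp (swap f)) (ψ := RingHom.id _) (fun r => ?_) ?_ ?_) z <;>
    simp [swap]

theorem bijective_swap : Function.Bijective (swap f) :=
  Function.Involutive.bijective (swap_swap f)

theorem eq_induction {p : GRing f → Prop} (hC : ∀ r, p (str f r)) (hadd : ∀ z w, p z → p w → p (z + w))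
    (hT : ∀ z, p z → p (z * T f)) (hV : ∀ z, p z → p (z * V f)) (z : GRing f) : p z := by
  obtain ⟨P, rfl⟩ := Ideal.Quotient.mk_surjective z
  induction P using MvPolynomial.induction_on with
  | C r => exact hC r
  | add P Q hP hQ => rw [map_add]; exact hadd _ _ hP hQ
  | mul_X P i hP =>
    rw [map_mul]
    fin_cases i
    · exact hT _ hP
    · exact hV _ hP

section free

/-- The coefficient of `T ^ i V ^ j` goes to degree `i - j`. -/
noncomputable def coords : MvPolynomial (Fin 2) A →ₗ[A] (ℤ →₀ A) :=
  (MvPolynomial.basisMonomials (Fin 2) A).constr A fun d =>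
    Finsupp.single ((d 0 : ℤ) - d 1) (f ^ min (d 0) (d 1))

theorem coords_monomial (d : Fin 2 →₀ ℕ) (a : A) :
    coords f (monomial d a) = Finsupp.single ((d 0 : ℤ) - d 1) (a * f ^ min (d 0) (d 1)) := by
  have h : monomial d a = a • (MvPolynomial.basisMonomials (Fin 2) A) d := by
    rw [MvPolynomial.coe_basisMonomials, smul_monomial, smul_eq_mul, mul_one]
  rw [h, map_smul, coords, Module.Basis.constr_basis, Finsupp.smul_single, smul_eq_mul]

theorem coords_mul_rel (P : MvPolynomial (Fin 2) A) : coords f (P * (X 0 * X 1 - C f)) = 0 := by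
  induction P using MvPolynomial.induction_on' with
  | monomial d a =>
    rw [mul_sub, X, X, monomial_mul, monomial_mul, mul_comm _ (C f), C_mul_monomial, map_sub, coords_monomial,
      coords_monomial, sub_eq_zero]
    have h0 : (d + ((Finsupp.single 0 1 + Finsupp.single 1 1) : Fin 2 →₀ ℕ)) (0 : Fin 2) = d 0 + 1 := by
      simp [Fin.zero_ne_one]
    have h1 : (d + ((Finsupp.single 0 1 + Finsupp.single 1 1) : Fin 2 →₀ ℕ)) (1 : Fin 2) = d 1 + 1 := by
      simp [Fin.zero_ne_one]
    rw [h0, h1, Nat.add_min_add_right, pow_succ]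
    congr 1
    · push_cast; ring
    · ring
  | add P Q hP hQ => rw [add_mul, map_add, hP, hQ, add_zero]

/-- The coordinates on the quotient. -/
noncomputable def qcoords : GRing f →ₗ[A] (ℤ →₀ A) :=
  Submodule.liftQ ((rel f).restrictScalars A) (coords f) fun z hz => by
    obtain ⟨P, rfl⟩ := Ideal.mem_span_singleton'.1 hz
    exact coords_mul_rel f P

noncomputable def basisVal (n : ℤ) : GRing f := T f ^ n.toNat * V f ^ (-n).toNat

theorem free : Module.Free A (GRing f) := by
  classical
  have key : ∀ d : Fin 2 →₀ ℕ, ∀ a : A, Finsupp.linearCombination A (basisVal f) (coords f (monomial d a)) =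
      Ideal.Quotient.mk (rel f) (monomial d a) := fun d a => by
    have hm : monomial d a = C a * (X 0 ^ d 0 * X 1 ^ d 1) := by
      rw [monomial_eq, Finsupp.prod_fintype _ _ (fun i => pow_zero _), Fin.prod_univ_two]
    rw [coords_monomial, Finsupp.linearCombination_single, hm, map_mul, map_mul, map_pow, map_pow]
    show (a * f ^ min (d 0) (d 1)) • basisVal f _ = str f a * (T f ^ d 0 * V f ^ d 1)
    rw [show (a * f ^ min (d 0) (d 1)) • basisVal f ((d 0 : ℤ) - d 1) =
      str f (a * f ^ min (d 0) (d 1)) * basisVal f ((d 0 : ℤ) - d 1) from Algebra.smul_def (A := GRing f) _ _]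
    rw [map_mul, map_pow, ← T_mul_V, mul_pow, basisVal, mul_assoc]
    congr 1
    rw [mul_mul_mul_comm, ← pow_add, ← pow_add]
    congr 2 <;> omega
  have hL : ∀ z, Finsupp.linearCombination A (basisVal f) (qcoords f z) = z := fun z => by
    obtain ⟨P, rfl⟩ := Ideal.Quotient.mk_surjective z
    show Finsupp.linearCombination A (basisVal f) (coords f P) = _
    induction P using MvPolynomial.induction_on' with
    | monomial d a => exact key d a
    | add P Q hP hQ => rw [map_add, map_add, map_add, hP, hQ]
  have hR : ∀ c, qcoords f (Finsupp.linearCombination A (basisVal f) c) = c := fun c => by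
    induction c using Finsupp.induction_linear with
    | zero => simp
    | add c d hc hd => rw [map_add, map_add, hc, hd]
    | single n a =>
      rw [Finsupp.linearCombination_single, map_smul, basisVal, T, V, ← map_pow, ← map_pow, ← map_mul, X_pow_eq_monomial,
        X_pow_eq_monomial, monomial_mul]
      show a • coords f _ = _
      rw [coords_monomial, Finsupp.smul_single, smul_eq_mul]
      have h0 : ((Finsupp.single 0 n.toNat + Finsupp.single 1 (-n).toNat) : Fin 2 →₀ ℕ) 0 = n.toNat := by
        simp [Fin.zero_ne_one]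
      have h1 : ((Finsupp.single 0 n.toNat + Finsupp.single 1 (-n).toNat) : Fin 2 →₀ ℕ) 1 = (-n).toNat := by
        simp [Fin.zero_ne_one]
      rw [h0, h1, show min n.toNat (-n).toNat = 0 by omega, pow_zero, one_mul, one_mul, mul_one]
      congr 1
      omega
  exact Module.Free.of_basis (Module.Basis.ofRepr
    { qcoords f with invFun := Finsupp.linearCombination A (basisVal f), left_inv := hL, right_inv := hR })

theorem flat_str : (str f).Flat := by
  haveI := free f
  exact (RingHom.flat_algebraMap_iff (R := A) (S := GRing f)).2 inferInstance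

theorem finiteType_str : (str f).FiniteType :=
  (RingHom.finiteType_algebraMap (A := A) (B := GRing f)).2 inferInstance

end free

section modT

/-- Killing `T`. -/
noncomputable def modT : GRing f ⧸ Ideal.span {T f} →+* Polynomial (A ⧸ Ideal.span {f}) :=
  Ideal.Quotient.lift _
    (lift f (Polynomial.C.comp (Ideal.Quotient.mk _)) 0 Polynomial.X (by
      rw [zero_mul, RingHom.comp_apply, Ideal.Quotient.eq_zero_iff_mem.2 (Ideal.mem_span_singleton_self f), map_zero]))
    fun z hz => by
      obtain ⟨y, rfl⟩ := Ideal.mem_span_singleton'.1 hz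
      rw [map_mul, lift_T, mul_zero]

/-- The inverse of `modT`. -/
noncomputable def modTInv : Polynomial (A ⧸ Ideal.span {f}) →+* GRing f ⧸ Ideal.span {T f} :=
  Polynomial.eval₂RingHom (Ideal.Quotient.lift _ ((Ideal.Quotient.mk _).comp (str f)) fun z hz => by
      obtain ⟨y, rfl⟩ := Ideal.mem_span_singleton'.1 hz
      rw [RingHom.comp_apply, map_mul, ← T_mul_V]
      exact Ideal.Quotient.eq_zero_iff_mem.2
        (Ideal.mul_mem_left _ _ (Ideal.mul_mem_right _ _ (Ideal.mem_span_singleton_self _))))
    (Ideal.Quotient.mk _ (V f))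

theorem bijective_modT : Function.Bijective (modT f) := by
  have h1 : (modTInv f).comp (modT f) = RingHom.id _ := by
    refine Ideal.Quotient.ringHom_ext (hom_ext f (B := GRing f ⧸ Ideal.span {T f}) (φ := ((modTInv f).comp (modT f)).comp (Ideal.Quotient.mk _))
      (ψ := (RingHom.id _).comp (Ideal.Quotient.mk _)) (fun r => ?_) ?_ ?_)
    · simp [modT, modTInv]
    · simp [modT]
    · simp [modT, modTInv]
  have h2 : (modT f).comp (modTInv f) = RingHom.id _ := by
    refine Polynomial.ringHom_ext' (Ideal.Quotient.ringHom_ext (RingHom.ext fun r => ?_)) ?_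
    · simp [modT, modTInv]
    · simp [modT, modTInv]
  exact ⟨Function.LeftInverse.injective (g := modTInv f) (RingHom.congr_fun h1),
    Function.RightInverse.surjective (g := modTInv f) (RingHom.congr_fun h2)⟩

/-- `V` is a non zero divisor modulo `T`. -/
theorem regular_modT (z : GRing f ⧸ Ideal.span {T f}) (hz : Ideal.Quotient.mk _ (V f) * z = 0) : z = 0 := by
  refine (bijective_modT f).1 ?_
  have h := congrArg (modT f) hz
  rw [map_mul, map_zero, modT, Ideal.Quotient.lift_mk, lift_V] at h
  rw [map_zero]
  ext n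
  have := congrArg (fun P => P.coeff (n + 1)) h
  simpa [Polynomial.coeff_X_mul, modT] using this

end modT

section primes

variable (p : Ideal A) [hp : p.IsPrime]

noncomputable def aT : Polynomial A →+* GRing f := Polynomial.eval₂RingHom (str f) (T f)

theorem exists_pow_T_mul (z : GRing f) : ∃ (N : ℕ) (P : Polynomial A), T f ^ N * z = aT f P := by
  induction z using eq_induction f with
  | hC r => exact ⟨0, Polynomial.C r, by simp [aT]⟩
  | hadd z w hz hw =>
    obtain ⟨N, P, hP⟩ := hz
    obtain ⟨M, Q, hQ⟩ := hw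
    refine ⟨N + M, Polynomial.X ^ M * P + Polynomial.X ^ N * Q, ?_⟩
    rw [map_add, map_mul, map_mul, ← hP, ← hQ]
    simp [aT, pow_add]
    ring
  | hT z hz =>
    obtain ⟨N, P, hP⟩ := hz
    refine ⟨N, P * Polynomial.X, ?_⟩
    rw [← mul_assoc, hP, map_mul]
    simp [aT]
  | hV z hz =>
    obtain ⟨N, P, hP⟩ := hz
    refine ⟨N + 1, P * Polynomial.C f, ?_⟩
    rw [map_mul, ← hP]
    simp [aT, ← T_mul_V, pow_succ]
    ring

noncomputable def redX : A →+* FractionRing (Polynomial (A ⧸ p)) :=
  (algebraMap (Polynomial (A ⧸ p)) _).comp (Polynomial.C.comp (Ideal.Quotient.mk p))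

noncomputable def fracX : FractionRing (Polynomial (A ⧸ p)) := algebraMap (Polynomial (A ⧸ p)) _ Polynomial.X

theorem fracX_ne_zero : fracX p ≠ 0 := by
  rw [fracX, Ne, map_eq_zero_iff _ (IsFractionRing.injective _ _)]
  exact Polynomial.X_ne_zero

noncomputable def genHom : GRing f →+* FractionRing (Polynomial (A ⧸ p)) :=
  lift f (redX p) (fracX p) (redX p f / fracX p) (mul_div_cancel₀ _ (fracX_ne_zero p))

/-- The generic point over `p` of the locus where `T` is invertible. -/
noncomputable def qT : Ideal (GRing f) := RingHom.ker (genHom f p)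

instance qT_isPrime : (qT f p).IsPrime := RingHom.ker_isPrime _

theorem T_notMem_qT : T f ∉ qT f p := by
  rw [qT, RingHom.mem_ker, genHom, lift_T]
  exact fracX_ne_zero p

theorem genHom_aT (P : Polynomial A) :
    genHom f p (aT f P) = algebraMap (Polynomial (A ⧸ p)) _ (P.map (Ideal.Quotient.mk p)) := by
  induction P using Polynomial.induction_on' with
  | add P Q hP hQ => rw [map_add, map_add, hP, hQ, Polynomial.map_add, map_add]
  | monomial n a =>
    rw [Polynomial.map_monomial, ← Polynomial.C_mul_X_pow_eq_monomial, ← Polynomial.C_mul_X_pow_eq_monomial]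
    simp [aT, genHom, redX, fracX]

theorem str_mem_qT (r : A) : str f r ∈ qT f p ↔ r ∈ p := by
  rw [qT, RingHom.mem_ker, genHom, lift_str, redX, RingHom.comp_apply,
    map_eq_zero_iff _ (IsFractionRing.injective _ _), RingHom.comp_apply, Polynomial.C_eq_zero,
    Ideal.Quotient.eq_zero_iff_mem]

theorem aT_mem_qT (P : Polynomial A) : aT f P ∈ qT f p ↔ ∀ n, P.coeff n ∈ p := by
  rw [qT, RingHom.mem_ker, genHom_aT, map_eq_zero_iff _ (IsFractionRing.injective _ _), Polynomial.ext_iff]
  simp [Ideal.Quotient.eq_zero_iff_mem]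

theorem aT_mem_map {P : Polynomial A} (h : ∀ n, P.coeff n ∈ p) : aT f P ∈ p.map (str f) := by
  rw [aT, Polynomial.coe_eval₂RingHom, Polynomial.eval₂_eq_sum]
  exact Ideal.sum_mem _ fun n _ => Ideal.mul_mem_right _ _ (Ideal.mem_map_of_mem _ (h n))

theorem pow_T_mul_mem_map {z : GRing f} (hz : z ∈ qT f p) : ∃ N : ℕ, T f ^ N * z ∈ p.map (str f) := by
  obtain ⟨N, P, hP⟩ := exists_pow_T_mul f z
  refine ⟨N, hP ▸ aT_mem_map f p ((aT_mem_qT f p P).1 ?_)⟩
  rw [← hP]
  exact Ideal.mul_mem_left _ _ hz

theorem qT_le {P : Ideal (GRing f)} [hP : P.IsPrime] (h : p.map (str f) ≤ P) (hT : T f ∉ P) : qT f p ≤ P := by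
  intro z hz
  obtain ⟨N, hN⟩ := pow_T_mul_mem_map f p hz
  exact (hP.mem_or_mem (h hN)).resolve_left fun h' => hT (hP.mem_of_pow_mem _ h')

/-- The crossing point over `p ∋ f`. -/
noncomputable def cross (hf : f ∈ p) : Ideal (GRing f) :=
  RingHom.ker (lift f (Ideal.Quotient.mk p) 0 0 (by rw [mul_zero, Ideal.Quotient.eq_zero_iff_mem.2 hf]))

theorem eq_cross {P : Ideal (GRing f)} [hP : P.IsPrime] (h : P.comap (str f) = p) (hT : T f ∈ P) (hV : V f ∈ P)
    (hf : f ∈ p) : P = cross f p hf := by
  have key : ∀ z, ∃ r, z - str f r ∈ Ideal.span {T f, V f} := fun z => by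
    induction z using eq_induction f with
    | hC r => exact ⟨r, by simp⟩
    | hadd z w hz hw =>
      obtain ⟨r, hr⟩ := hz
      obtain ⟨r', hr'⟩ := hw
      exact ⟨r + r', by rw [map_add, add_sub_add_comm]; exact Ideal.add_mem _ hr hr'⟩
    | hT z _ => exact ⟨0, by simpa using Ideal.mul_mem_left _ z (Ideal.subset_span (show T f ∈ ({T f, V f} : Set _) by simp))⟩
    | hV z _ => exact ⟨0, by simpa using Ideal.mul_mem_left _ z (Ideal.subset_span (show V f ∈ ({T f, V f} : Set _) by simp))⟩
  have h1 : Ideal.span {T f, V f} ≤ P := Ideal.span_le.2 (by rintro x (rfl | rfl) <;> assumption)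
  have h2 : Ideal.span {T f, V f} ≤ cross f p hf :=
    Ideal.span_le.2 (by rintro x (rfl | rfl) <;> simp [cross, RingHom.mem_ker])
  ext z
  obtain ⟨r, hr⟩ := key z
  have e1 : z ∈ P ↔ str f r ∈ P := ⟨fun hz => by simpa using P.sub_mem hz (h1 hr),
    fun hz => by simpa using P.add_mem (h1 hr) hz⟩
  have e2 : z ∈ cross f p hf ↔ str f r ∈ cross f p hf := ⟨fun hz => by simpa using Ideal.sub_mem _ hz (h2 hr),
    fun hz => by simpa using Ideal.add_mem _ (h2 hr) hz⟩
  rw [e1, e2, ← Ideal.mem_comap, h]
  simp [cross, RingHom.mem_ker, Ideal.Quotient.eq_zero_iff_mem]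

theorem qT_le_cross (hf : f ∈ p) : qT f p ≤ cross f p hf := by
  let g : GRing f →+* Polynomial (A ⧸ p) :=
    lift f (Polynomial.C.comp (Ideal.Quotient.mk p)) Polynomial.X 0
      (by rw [mul_zero, RingHom.comp_apply, Ideal.Quotient.eq_zero_iff_mem.2 hf, map_zero])
  have hg : (algebraMap (Polynomial (A ⧸ p)) _).comp g = genHom f p := by
    refine hom_ext f (fun r => by simp [g, genHom, redX]) (by simp [g, genHom, fracX]) ?_
    simp [g, genHom, redX, Ideal.Quotient.eq_zero_iff_mem.2 hf]
  have he : (Polynomial.evalRingHom 0).comp g = lift f (Ideal.Quotient.mk p) 0 0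
      (by rw [mul_zero, Ideal.Quotient.eq_zero_iff_mem.2 hf]) :=
    hom_ext f (fun r => by simp [g]) (by simp [g]) (by simp [g])
  intro z hz
  rw [qT, RingHom.mem_ker, ← hg, RingHom.comp_apply, map_eq_zero_iff _ (IsFractionRing.injective _ _)] at hz
  rw [cross, RingHom.mem_ker, ← he, RingHom.comp_apply, hz, map_zero]

/-- The section `T = 1`. -/
noncomputable def sect : GRing f →+* A := lift f (RingHom.id A) 1 f (one_mul _)

theorem qT_le_sect : qT f p ≤ p.comap (sect f) := by
  haveI : (p.comap (sect f)).IsPrime := Ideal.comap_isPrime _ _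
  refine qT_le f p (Ideal.map_le_iff_le_comap.2 fun r hr => by simp [sect, hr]) ?_
  simp [sect, p.ne_top_iff_one.1 hp.ne_top]

theorem qT_covBy_sect {P : Ideal (GRing f)} [hP : P.IsPrime] (hPs : P ≤ p.comap (sect f)) (hne : ¬ P ≤ qT f p)
    (hle : qT f p ≤ P) : P = p.comap (sect f) := by
  refine le_antisymm hPs ?_
  have hT : T f ∉ P := fun h => p.ne_top_iff_one.1 hp.ne_top (by simpa [sect] using hPs h)
  have hpP : ∀ r ∈ p, str f r ∈ P := fun r hr => hle ((str_mem_qT f p r).2 hr)
  -- `T - 1` lies in `P`
  have hX : T f - 1 ∈ P := by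
    by_contra hX
    have key : ∀ n, ∀ h : Polynomial A, h.natDegree ≤ n → aT f h ∈ P → ∀ m, h.coeff m ∈ p := by
      intro n
      induction n with
      | zero =>
        intro h hh hmem m
        rw [Polynomial.eq_C_of_natDegree_le_zero hh] at hmem ⊢
        have h1 := hPs hmem
        rcases m with _ | m
        · simpa [aT, sect] using h1
        · simp
      | succ n ih =>
        intro h hh hmem
        obtain ⟨h1, hh1⟩ := Polynomial.X_sub_C_dvd_sub_C_eval (a := (1 : A)) (p := h)
        have he : h.eval 1 ∈ p := by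
          have h2 := hPs hmem
          simpa [aT, sect, Polynomial.hom_eval₂, Polynomial.eval₂_id] using h2
        have hdeg : h1.natDegree ≤ n := by
          by_cases h10 : h1 = 0
          · simp [h10]
          · have := congrArg Polynomial.natDegree hh1
            haveI hnA : Nontrivial A := ⟨⟨0, 1, fun e => p.ne_top_iff_one.1 hp.ne_top (e ▸ p.zero_mem)⟩⟩
            rw [Polynomial.natDegree_sub_C, (Polynomial.monic_X_sub_C (1 : A)).natDegree_mul' h10,
              Polynomial.natDegree_X_sub_C] at this
            omega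
        have hm : aT f h1 ∈ P := by
          have h3 : (T f - 1) * aT f h1 ∈ P := by
            have e : aT f h - str f (h.eval 1) = (T f - 1) * aT f h1 := by
              have := congrArg (aT f) hh1
              simpa [aT] using this
            rw [← e]
            exact P.sub_mem hmem (hpP _ he)
          exact (hP.mem_or_mem h3).resolve_left hX
        intro m
        rw [show h = (Polynomial.X - Polynomial.C 1) * h1 + Polynomial.C (h.eval 1) by rw [← hh1]; ring,
          Polynomial.coeff_add]
        refine p.add_mem ?_ ?_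
        · rw [sub_mul, Polynomial.coeff_sub]
          refine p.sub_mem ?_ (by simpa using ih h1 hdeg hm m)
          rcases m with _ | m
          · simp
          · simpa using ih h1 hdeg hm m
        · rw [Polynomial.coeff_C]; split_ifs <;> simp [he]
    refine hne fun z hz => ?_
    obtain ⟨N, h, hh⟩ := exists_pow_T_mul f z
    have hmem : aT f h ∈ P := hh ▸ P.mul_mem_left _ hz
    have : T f ^ N * z ∈ qT f p := hh ▸ (aT_mem_qT f p h).2 (key _ h le_rfl hmem)
    exact ((qT_isPrime f p).mem_or_mem this).resolve_left fun h' => T_notMem_qT f p ((qT_isPrime f p).mem_of_pow_mem _ h')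
  intro z hz
  have key : z - str f (sect f z) ∈ P := by
    have hV' : V f - str f f ∈ P := by
      have : V f - str f f = -((T f - 1) * V f) := by rw [sub_mul, T_mul_V]; ring
      rw [this]; exact P.neg_mem (P.mul_mem_right _ hX)
    have e : Ideal.Quotient.mk P = ((Ideal.Quotient.mk P).comp (str f)).comp (sect f) := by
      refine hom_ext f (B := GRing f ⧸ P) (fun r => ?_) ?_ ?_
      · simp [sect]
      · simpa [sect] using Ideal.Quotient.eq.2 (show T f - 1 ∈ P from hX)
      · simpa [sect] using Ideal.Quotient.eq.2 hV'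
    exact Ideal.Quotient.eq.1 (RingHom.congr_fun e z)
  simpa using P.add_mem key (hpP _ hz)

/-- The generic point over `p` of the locus where `V` is invertible. -/
noncomputable def qV : Ideal (GRing f) := (qT f p).comap (swap f)

instance qV_isPrime : (qV f p).IsPrime := Ideal.comap_isPrime _ _

end primes

section change

variable {A' : Type u} [CommRing A'] (σ : A →+* A') {f' : A'} (d : A') (h : σ f = d * f')

/-- Change of generator and restriction. -/
noncomputable def trans : GRing f →+* GRing f' :=
  lift f ((str f').comp σ) (T f') (str f' d * V f') (by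
    rw [RingHom.comp_apply, h, map_mul, ← T_mul_V]; ring)

theorem isLocalization_trans (r : A) [Algebra A A'] (hσ : algebraMap A A' = σ) [IsLocalization.Away r A']
    (hd : IsUnit d) [Algebra (GRing f) (GRing f')] (htr : algebraMap (GRing f) (GRing f') = trans f σ d h) :
    IsLocalization.Away (str f r) (GRing f') := by
  obtain ⟨d, rfl⟩ := hd
  subst hσ
  let M := Submonoid.powers (str f r)
  obtain ⟨S, _, _, _⟩ : ∃ (S : Type u) (_ : CommRing S) (_ : Algebra (GRing f) S), IsLocalization M S :=
    ⟨Localization M, inferInstance, inferInstance, inferInstance⟩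
  let ι : GRing f →+* S := algebraMap _ _
  have hr : ∀ y : Submonoid.powers r, IsUnit (ι.comp (str f) y) := by
    rintro ⟨_, n, rfl⟩
    exact IsLocalization.map_units S (⟨str f r ^ n, n, rfl⟩ : M) |> fun h => by simpa [ι] using h
  let a : A' →+* S := @IsLocalization.lift A _ (Submonoid.powers r) A' _ _ S _ _ (ι.comp (str f)) hr
  have ha : ∀ x, a (algebraMap A A' x) = ι (str f x) := fun x => IsLocalization.lift_eq hr x
  let ψ : GRing f' →+* S := lift f' a (ι (T f)) (a ↑d⁻¹ * ι (V f)) (by
    rw [mul_left_comm, ← map_mul ι, T_mul_V, ← ha, h, ← map_mul a, ← mul_assoc, Units.inv_mul, one_mul])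
  have hM : ∀ y : M, IsUnit (trans f (algebraMap A A') (↑d) h y) := by
    rintro ⟨_, n, rfl⟩
    simp only [map_pow, trans, lift_str, RingHom.comp_apply]
    exact ((IsLocalization.Away.algebraMap_isUnit r).map _).pow n
  let φ : S →+* GRing f' := @IsLocalization.lift (GRing f) _ M S _ _ (GRing f') _ _ (trans f (algebraMap A A') (↑d) h) hM
  have hφ : ∀ z, φ (ι z) = trans f (algebraMap A A') (↑d) h z := fun z => IsLocalization.lift_eq hM z
  have hψ : ∀ z, ψ (trans f (algebraMap A A') (↑d) h z) = ι z := fun z => by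
    refine RingHom.congr_fun (hom_ext f (φ := ψ.comp (trans f (algebraMap A A') (↑d) h)) (ψ := ι) (fun x => ?_) ?_ ?_) z
    · simp [ψ, trans, ha]
    · simp [ψ, trans]
    · simp only [ψ, trans, RingHom.comp_apply, lift_V, map_mul, lift_str]
      rw [← mul_assoc, ← map_mul, Units.mul_inv, map_one, one_mul]
  have h1 : φ.comp ψ = RingHom.id _ := by
    have hφa : φ.comp a = str f' := IsLocalization.ringHom_ext (Submonoid.powers r) (RingHom.ext fun x => by
      simp [ha, hφ, trans])
    refine hom_ext f' (fun x => ?_) ?_ ?_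
    · simpa [ψ] using RingHom.congr_fun hφa x
    · simp [ψ, hφ, trans]
    · simp only [RingHom.comp_apply, RingHom.id_apply, ψ, lift_V]
      rw [map_mul, show φ (a ↑d⁻¹) = str f' ↑d⁻¹ from RingHom.congr_fun hφa _, hφ, trans, lift_V, ← mul_assoc,
        ← map_mul, Units.inv_mul, map_one, one_mul]
  have h2 : ψ.comp φ = RingHom.id _ := IsLocalization.ringHom_ext M (RingHom.ext fun z => by
    show ψ (φ (ι z)) = ι z
    rw [hφ, hψ])
  let e : S ≃ₐ[GRing f] GRing f' := AlgEquiv.ofRingEquiv (f := RingEquiv.ofRingHom φ ψ h1 h2) fun z => by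
    rw [htr]; exact hφ z
  exact IsLocalization.isLocalization_of_algEquiv M e

end change

end Groth.Agent.GysDef28
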