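import Groth.Agent.GysDef28.Ring
import Groth.Agent.CycLib28.C1Flat
import Groth.Agent.PicLib.PullbackGen
import Mathlib.AlgebraicGeometry.Sites.SmallAffineZariski
import Mathlib.AlgebraicGeometry.RelativeGluing
import Groth.Prelude.Def_Pic

/-!
# The scheme `t v = s` over `X`
-/

set_option autoImplicit false
set_option linter.style.haveILetI false
set_option linter.unusedSectionVars false
set_option backward.isDefEq.respectTransparency.types false
set_option maxHeartbeats 1000000

universe u

open CategoryTheory CategoryTheory.Limits AlgebraicGeometry Opposite TopologicalSpace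
open Groth.Agent.Coherent Groth.Agent.PicLib Groth.Agent.CycLim28

namespace Groth.Agent.GysDef28

variable {X : Scheme.{u}} (L : X.Modules) (s : Γ(L, ⊤))

/-- Affine opens on which `L` has a generator. -/
structure TA : Type u where
  opn : X.Opens
  aff : IsAffineOpen opn
  triv : ∃ e : Γ(L, opn), IsGen L opn e

variable {L} in
theorem TA.ext' {U V : TA L} (h : U.opn = V.opn) : U = V := by
  cases U; cases V; cases h; rfl

instance : PartialOrder (TA L) where
  le V U := ∃ f : Γ(X, U.opn), X.basicOpen f = V.opn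
  le_refl U := ⟨1, Scheme.basicOpen_of_isUnit _ isUnit_one⟩
  le_trans := by
    rintro ⟨W, hW, _⟩ ⟨V, hV, _⟩ ⟨U, hU, _⟩ ⟨f, hf⟩ ⟨g, hg⟩
    subst hf hg
    exact hU.basicOpen_basicOpen_is_basicOpen g f
  le_antisymm := by
    rintro U V ⟨f, hf⟩ ⟨g, hg⟩
    exact TA.ext' (le_antisymm (hf ▸ X.basicOpen_le f) (hg ▸ X.basicOpen_le g))

variable {L}

noncomputable def gen (U : TA L) : Γ(L, U.opn) := U.triv.choose

theorem isGen_gen (U : TA L) : IsGen L U.opn (gen U) := U.triv.choose_spec

theorem le_opens {U V : TA L} (h : V ≤ U) : V.opn ≤ U.opn := by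
  obtain ⟨f, hf⟩ := h
  exact hf ▸ X.basicOpen_le f

noncomputable def fn (U : TA L) : Γ(X, U.opn) := (isGen_gen U).coef le_rfl (resM L le_top s)

theorem fn_spec (U : TA L) : fn s U • gen U = resM L le_top s := by
  have := (isGen_gen U).coef_spec le_rfl (resM L le_top s)
  rwa [resM_self] at this

/-- Change of generator. -/
noncomputable def chg {U V : TA L} (h : V ≤ U) : Γ(X, V.opn) :=
  ((isGen_gen U).restrict (le_opens h)).coef le_rfl (gen V)

theorem chg_spec {U V : TA L} (h : V ≤ U) : chg h • resM L (le_opens h) (gen U) = gen V := by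
  have := ((isGen_gen U).restrict (le_opens h)).coef_spec le_rfl (gen V)
  rwa [resM_self] at this

theorem eq_chg {U V : TA L} (h : V ≤ U) {c : Γ(X, V.opn)} (hc : c • resM L (le_opens h) (gen U) = gen V) :
    c = chg h := by
  refine (((isGen_gen U).restrict (le_opens h)) _ le_rfl).1 ?_
  show c • _ = chg h • _
  rw [resM_self, hc, chg_spec]

theorem isUnit_chg {U V : TA L} (h : V ≤ U) : IsUnit (chg h) :=
  IsGen.isUnit_coef ((isGen_gen U).restrict (le_opens h)) (isGen_gen V)

theorem res_fn {U V : TA L} (h : V ≤ U) : res (le_opens h) (fn s U) = chg h * fn s V := by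
  refine (((isGen_gen U).restrict (le_opens h)) _ le_rfl).1 ?_
  show res (le_opens h) (fn s U) • _ = (chg h * fn s V) • _
  rw [resM_self, mul_comm, mul_smul, chg_spec, fn_spec, ← resM_smul, fn_spec, resM_resM]

/-- The chart rings. -/
noncomputable abbrev chartRing (U : TA L) : CommRingCat.{u} := CommRingCat.of (GRing (fn s U))

noncomputable def ringMap {U V : TA L} (h : V ≤ U) : GRing (fn s U) →+* GRing (fn s V) :=
  trans (fn s U) (X.presheaf.map (homOfLE (le_opens h)).op).hom (chg h) (res_fn s h)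

theorem ringMap_self (U : TA L) : ringMap s (le_refl U) = RingHom.id _ := by
  have hc : chg (le_refl U) = 1 := (eq_chg (le_refl U) (by rw [one_smul, resM_self])).symm
  refine hom_ext _ (fun r => ?_) ?_ ?_
  · simp only [ringMap, trans, lift_str, RingHom.id_apply]
    exact congrArg (str (fn s U)) (ConcreteCategory.congr_hom (X.presheaf.map_id _) r)
  · simp [ringMap, trans]
  · simp [ringMap, trans, hc]

theorem ringMap_comp {U V W : TA L} (h : V ≤ U) (h' : W ≤ V) :
    ringMap s (h'.trans h) = (ringMap s h').comp (ringMap s h) := by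
  have hc : chg (h'.trans h) = chg h' * res (le_opens h') (chg h) := by
    refine (eq_chg _ ?_).symm
    rw [mul_smul]
    conv_rhs => rw [← chg_spec h', ← chg_spec h, resM_smul, resM_resM]
  refine hom_ext _ (fun r => ?_) ?_ ?_
  · simp only [ringMap, trans, lift_str, RingHom.comp_apply]
    exact congrArg _ (ConcreteCategory.congr_hom
      (X.presheaf.map_comp (homOfLE (le_opens h)).op (homOfLE (le_opens h')).op) r)
  · simp [ringMap, trans]
  · simp only [ringMap, trans, lift_V, RingHom.comp_apply, map_mul, lift_str, hc]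
    show str _ (chg h') * str _ (res (le_opens h') (chg h)) * GysDef28.V _ =
      str _ (res (le_opens h') (chg h)) * (str _ (chg h') * GysDef28.V _)
    ring

/-- The cover by trivializing affine opens. -/
noncomputable abbrev taCover (hL : PicF.IsInvertible L) : X.OpenCover where
  I₀ := TA L
  X U := U.opn
  f U := U.opn.ι
  mem₀ := by
    rw [Scheme.presieve₀_mem_precoverage_iff]
    refine ⟨fun x => ?_, inferInstance⟩
    obtain ⟨U, hx, e, he⟩ := exists_isGen hL x
    obtain ⟨_, ⟨W, hW, rfl⟩, hxW, hWU⟩ := X.isBasis_affineOpens.exists_subset_of_mem_open (show x ∈ (U : Set X) from hx) U.2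
    exact ⟨⟨W, hW, resM L hWU e, he.restrict hWU⟩, ⟨x, hxW⟩, rfl⟩

theorem exists_le_le (U V : TA L) {a : X} (haU : a ∈ U.opn) (haV : a ∈ V.opn) :
    ∃ W : TA L, W ≤ U ∧ W ≤ V ∧ a ∈ W.opn := by
  obtain ⟨f, g, e, hxf⟩ := exists_basicOpen_le_affine_inter U.aff V.aff _ ⟨haU, haV⟩
  exact ⟨⟨X.basicOpen f, U.aff.basicOpen f, _, (isGen_gen U).restrict (X.basicOpen_le f)⟩, ⟨f, rfl⟩, ⟨g, e.symm⟩, hxf⟩

variable (hL : PicF.IsInvertible L)

noncomputable instance : Category (taCover hL).I₀ := inferInstanceAs (Category (TA L))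

instance : Quiver.IsThin (taCover hL).I₀ := inferInstanceAs (Quiver.IsThin (TA L))

noncomputable instance : (taCover hL).LocallyDirected where
  trans {U V} i := X.homOfLE (le_opens (leOfHom (X := TA L) i))
  directed {U V} x := by
    let a := (pullback.fst U.opn.ι V.opn.ι ≫ U.opn.ι) x
    have haU : a ∈ U.opn := (pullback.fst U.opn.ι V.opn.ι x).2
    have haV : a ∈ V.opn := by unfold a; rw [pullback.condition]; exact (pullback.snd U.opn.ι V.opn.ι x).2
    obtain ⟨W, hU, hV, hW⟩ := exists_le_le U V haU haV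
    refine ⟨W, homOfLE (X := TA L) hU, homOfLE (X := TA L) hV, ⟨a, hW⟩, ?_⟩
    apply (pullback.fst _ _ ≫ U.opn.ι).isOpenEmbedding.injective
    dsimp
    change (pullback.lift _ _ _ ≫ pullback.fst _ _ ≫ U.opn.ι) _ = _
    simp only [pullback.lift_fst_assoc, Scheme.homOfLE_ι, Scheme.Opens.ι_apply]
    rfl

noncomputable def chartMap {U V : TA L} (h : V ≤ U) :
    Spec (chartRing s V) ⟶ Spec (chartRing s U) := Spec.map (CommRingCat.ofHom (ringMap s h))

/-- The chart morphisms to the base. -/
noncomputable def chartToOpen (U : TA L) : Spec (chartRing s U) ⟶ U.opn.toScheme :=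
  Spec.map (CommRingCat.ofHom (str (fn s U))) ≫ U.aff.isoSpec.inv

theorem chartMap_toOpen {U V : TA L} (h : V ≤ U) :
    chartMap s h ≫ chartToOpen s U = chartToOpen s V ≫ X.homOfLE (le_opens h) := by
  have e1 : CommRingCat.ofHom (str (fn s U)) ≫ CommRingCat.ofHom (ringMap s h) =
      X.presheaf.map (homOfLE (le_opens h)).op ≫ CommRingCat.ofHom (str (fn s V)) :=
    CommRingCat.hom_ext (RingHom.ext fun r => by simp [ringMap, trans])
  rw [chartMap, chartToOpen, ← Spec.map_comp_assoc, e1, Spec.map_comp_assoc, chartToOpen, Category.assoc,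
    ← cancel_mono U.opn.ι]
  simp only [Category.assoc, Scheme.homOfLE_ι]
  rw [show U.aff.isoSpec.inv ≫ U.opn.ι = U.aff.fromSpec from rfl, show V.aff.isoSpec.inv ≫ V.opn.ι = V.aff.fromSpec from rfl,
    U.aff.map_fromSpec V.aff]

theorem isPullback_chart {U V : TA L} (h : V ≤ U) :
    IsPullback (chartMap s h) (chartToOpen s V) (chartToOpen s U) (X.homOfLE (le_opens h)) := by
  obtain ⟨r, hr⟩ := id h
  let σ := (X.presheaf.map (homOfLE (le_opens h)).op).hom
  letI := σ.toAlgebra
  haveI : IsLocalization.Away r Γ(X, V.opn) := by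
    have h1 := U.aff.isLocalization_of_eq_basicOpen r (homOfLE (le_opens h)) hr.symm
    exact h1
  letI := (ringMap s h).toAlgebra
  haveI := isLocalization_trans (fn s U) σ (chg h) (res_fn s h) r rfl (isUnit_chg h) rfl
  haveI : IsScalarTower Γ(X, U.opn) (GRing (fn s U)) (GRing (fn s V)) :=
    ⟨fun a y z => by
      rw [Algebra.smul_def (A := GRing (fn s U)) a y, Algebra.smul_def (A := GRing (fn s V)) a (y • z)]
      show ringMap s h (str (fn s U) a * y) * z = str (fn s V) (σ a) * (ringMap s h y * z)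
      rw [map_mul, mul_assoc]
      congr 1
      simp [ringMap, trans, σ]⟩
  have hloc : IsLocalization (Algebra.algebraMapSubmonoid (GRing (fn s U)) (Submonoid.powers r)) (GRing (fn s V)) := by
    rw [Algebra.algebraMapSubmonoid_powers]
    assumption
  have hp : Algebra.IsPushout Γ(X, U.opn) (GRing (fn s U)) Γ(X, V.opn) (GRing (fn s V)) :=
    ((Algebra.isLocalization_iff_isPushout (.powers r) Γ(X, V.opn)).1 hloc)
  have hpo := (CommRingCat.isPushout_iff_isPushout (R := Γ(X, U.opn)) (S := Γ(X, V.opn)) (R' := GRing (fn s U))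
    (S' := GRing (fn s V))).2 hp
  refine (isPullback_SpecMap_of_isPushout _ _ _ _ hpo).of_iso (Iso.refl _) (Iso.refl _) V.aff.isoSpec.symm
    U.aff.isoSpec.symm ?_ ?_ ?_ ?_
  · simp; rfl
  · simp; rfl
  · simp; rfl
  · simp only [Iso.symm_hom]
    rw [← cancel_mono U.opn.ι]
    simp only [Category.assoc, Scheme.homOfLE_ι]
    exact (U.aff.map_fromSpec V.aff (homOfLE (le_opens h)).op).trans rfl

/-- The gluing data. -/
noncomputable def glueData : (taCover hL).RelativeGluingData where
  functor :=
    { obj := fun U => Spec (chartRing s U)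
      map := fun {U V} i => chartMap s (leOfHom (X := TA L) i)
      map_id := fun U => by
        show Spec.map (CommRingCat.ofHom (ringMap s (le_refl (α := TA L) U))) = _
        rw [ringMap_self]
        exact Spec.map_id _
      map_comp := fun {U V W} i j => by
        show Spec.map (CommRingCat.ofHom (ringMap s ((leOfHom (X := TA L) i).trans (leOfHom (X := TA L) j)))) = _
        rw [ringMap_comp, chartMap, chartMap, ← Spec.map_comp]
        rfl }
  natTrans := { app := fun U => chartToOpen s U, naturality := fun {U V} i => chartMap_toOpen s _ }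
  equifibered := fun {U V} i => isPullback_chart s _

instance : ((glueData s hL).functor ⋙ Scheme.forget).IsLocallyDirected :=
  Scheme.Cover.RelativeGluingData.instIsLocallyDirectedI₀CompFunctorForgetOfIsThin ..

/-- The scheme. -/
noncomputable def Sp : Scheme.{u} := (glueData s hL).glued

noncomputable def gg : Sp s hL ⟶ X := (glueData s hL).toBase

noncomputable def chart (U : TA L) : Spec (chartRing s U) ⟶ Sp s hL := colimit.ι (glueData s hL).functor U

instance isOpenImmersion_chart (U : TA L) : IsOpenImmersion (chart s hL U) := by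
  exact (glueData s hL).cover.map_prop U

theorem chart_gg (U : TA L) : chart s hL U ≫ gg s hL = Spec.map (CommRingCat.ofHom (str (fn s U))) ≫ U.aff.fromSpec :=
  ((glueData s hL).ι_toBase U).trans (Category.assoc _ _ _)

theorem gg_preimage (U : TA L) : gg s hL ⁻¹ᵁ U.opn = (chart s hL U).opensRange := by
  have h := (glueData s hL).toBase_preimage_eq_opensRange_ι U
  rwa [show ((taCover hL).f U).opensRange = U.opn from Scheme.Opens.opensRange_ι _] at h

theorem exists_chart (z : Sp s hL) : ∃ (U : TA L) (y : Spec (chartRing s U)), chart s hL U y = z :=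
  ⟨_, (glueData s hL).cover.covers z⟩

theorem chartMap_chart {U V : TA L} (h : V ≤ U) : chartMap s h ≫ chart s hL U = chart s hL V :=
  colimit.w (glueData s hL).functor (homOfLE (X := TA L) h)

instance isAffineHom_gg : IsAffineHom (gg s hL) := by
  refine (HasAffineProperty.iff_of_iSup_eq_top (P := @IsAffineHom) (fun U : TA L => (⟨U.opn, U.aff⟩ : X.affineOpens))
    (top_le_iff.1 fun x _ => ?_)).2 fun U => ?_
  · obtain ⟨y, hy⟩ := (taCover hL).covers x
    exact Opens.mem_iSup.2 ⟨(taCover hL).idx x, hy.subst (motive := fun z => z ∈ ((taCover hL).idx x).opn) y.2⟩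
  · show IsAffineOpen (gg s hL ⁻¹ᵁ U.opn)
    rw [gg_preimage]
    exact isAffineOpen_opensRange _

theorem of_charts (P : MorphismProperty Scheme.{u}) [IsZariskiLocalAtSource P]
    (h : ∀ U : TA L, P (Spec.map (CommRingCat.ofHom (str (fn s U))) ≫ U.aff.fromSpec)) : P (gg s hL) :=
  IsZariskiLocalAtSource.of_openCover (glueData s hL).cover fun U => by
    show P (chart s hL U ≫ gg s hL)
    rw [chart_gg]
    exact h U

instance flat_gg : Flat (gg s hL) := of_charts s hL @Flat fun U => by
  haveI : Flat (Spec.map (CommRingCat.ofHom (str (fn s U)))) :=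
    (HasRingHomProperty.Spec_iff (P := @Flat)).2 (flat_str (fn s U))
  infer_instance

instance lft_gg : LocallyOfFiniteType (gg s hL) := of_charts s hL @LocallyOfFiniteType fun U => by
  haveI : LocallyOfFiniteType (Spec.map (CommRingCat.ofHom (str (fn s U)))) :=
    (HasRingHomProperty.Spec_iff (P := @LocallyOfFiniteType)).2 (finiteType_str (fn s U))
  infer_instance

/-- The sections over the preimage of a chart. -/
noncomputable def secEquiv (U : TA L) : Γ(Sp s hL, gg s hL ⁻¹ᵁ U.opn) ⟶ chartRing s U :=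
  (chart s hL U).appLE (gg s hL ⁻¹ᵁ U.opn) ⊤ (by rw [gg_preimage, Scheme.Hom.preimage_opensRange]) ≫
    (Scheme.ΓSpecIso (chartRing s U)).hom

theorem bijective_secEquiv (U : TA L) : Function.Bijective (secEquiv s hL U) := by
  haveI : IsIso ((chart s hL U).appLE (gg s hL ⁻¹ᵁ U.opn) ⊤ (by rw [gg_preimage, Scheme.Hom.preimage_opensRange])) := by
    rw [Scheme.Hom.appLE]
    have h : chart s hL U ⁻¹ᵁ (gg s hL ⁻¹ᵁ U.opn) = ⊤ := by rw [gg_preimage, Scheme.Hom.preimage_opensRange]
    haveI : IsIso ((chart s hL U).app (gg s hL ⁻¹ᵁ U.opn)) :=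
      (chart s hL U).isIso_app _ (gg_preimage s hL U).le
    haveI : IsIso ((Spec (chartRing s U)).presheaf.map (homOfLE h.ge).op) := by
      rw [show homOfLE h.ge = eqToHom h.symm from Subsingleton.elim _ _]
      infer_instance
    infer_instance
  haveI : IsIso (secEquiv s hL U) := by rw [secEquiv]; infer_instance
  exact ConcreteCategory.bijective_of_isIso (secEquiv s hL U)

theorem secEquiv_res {U V : TA L} (h : V ≤ U) (z : Γ(Sp s hL, gg s hL ⁻¹ᵁ U.opn)) :
    secEquiv s hL V (res ((gg s hL).preimage_mono (le_opens h)) z) = ringMap s h (secEquiv s hL U z) := by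
  have e : (Scheme.ΓSpecIso (chartRing s U)).hom ≫ CommRingCat.ofHom (ringMap s h) =
      (chartMap s h).appTop ≫ (Scheme.ΓSpecIso (chartRing s V)).hom := (Scheme.ΓSpecIso_naturality _).symm
  have e2 : (Sp s hL).presheaf.map (homOfLE ((gg s hL).preimage_mono (le_opens h))).op ≫ secEquiv s hL V =
      secEquiv s hL U ≫ CommRingCat.ofHom (ringMap s h) := by
    rw [secEquiv, secEquiv, Category.assoc, e, ← Category.assoc, ← Category.assoc]
    refine congrArg (· ≫ _) ?_
    rw [Scheme.Hom.map_appLE, Scheme.Hom.appTop, Scheme.Hom.app_eq_appLE]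
    refine Eq.trans ?_ ((chartMap s h).appLE_comp_appLE (chart s hL U) _ ⊤ ⊤ _ le_top).symm
    simp only [chartMap_chart]
  exact ConcreteCategory.congr_hom e2 z

theorem secEquiv_app (U : TA L) (r : Γ(X, U.opn)) :
    secEquiv s hL U ((gg s hL).app U.opn r) = str (fn s U) r := by
  have e : (gg s hL).app U.opn ≫ secEquiv s hL U = CommRingCat.ofHom (str (fn s U)) := by
    rw [secEquiv, Scheme.Hom.app_eq_appLE, Scheme.Hom.appLE_comp_appLE_assoc]
    simp only [chart_gg]
    rw [← Scheme.Hom.appLE_comp_appLE _ _ _ (⊤ : (Spec Γ(X, U.opn)).Opens) ⊤ (by rw [U.aff.fromSpec_preimage_self]) le_top]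
    have h2 : U.aff.fromSpec.appLE U.opn ⊤ (by rw [U.aff.fromSpec_preimage_self]) = (Scheme.ΓSpecIso Γ(X, U.opn)).inv := by
      rw [Scheme.Hom.appLE, U.aff.fromSpec_app_self, Category.assoc, ← Functor.map_comp]
      simp
    rw [h2, Category.assoc, show (Spec.map (CommRingCat.ofHom (str (fn s U)))).appLE ⊤ ⊤ le_top =
      (Spec.map (CommRingCat.ofHom (str (fn s U)))).appTop from (Scheme.Hom.app_eq_appLE _).symm]
    erw [Scheme.ΓSpecIso_naturality]
    exact Iso.inv_hom_id_assoc _ _
  exact ConcreteCategory.congr_hom e r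

/-- The family of coordinates along the charts, glued. -/
theorem exists_tSec : ∃ t : Γ(Sp s hL, ⊤), ∀ U : TA L, secEquiv s hL U (res le_top t) = T (fn s U) := by
  choose tU htU using fun U : TA L => (bijective_secEquiv s hL U).2 (T (fn s U))
  have hcov : (⊤ : (Sp s hL).Opens) ≤ ⨆ U : TA L, gg s hL ⁻¹ᵁ U.opn := fun z _ => by
    obtain ⟨U, y, rfl⟩ := exists_chart s hL z
    exact Opens.mem_iSup.2 ⟨U, by rw [gg_preimage]; exact ⟨y, rfl⟩⟩
  have hres : ∀ {U V : TA L} (h : V ≤ U), res ((gg s hL).preimage_mono (le_opens h)) (tU U) = tU V := fun {U V} h => by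
    refine (bijective_secEquiv s hL V).1 ?_
    rw [secEquiv_res s hL h, htU, htU]
    simp [ringMap, trans]
  obtain ⟨t, ht, -⟩ := (Sp s hL).sheaf.existsUnique_gluing' (fun U : TA L => gg s hL ⁻¹ᵁ U.opn) ⊤
    (fun _ => homOfLE le_top) hcov tU (fun U V => by
      refine (Sp s hL).sheaf.eq_of_locally_eq' (fun W : {W : TA L // W ≤ U ∧ W ≤ V} => gg s hL ⁻¹ᵁ W.1.opn) _
        (fun W => homOfLE (le_inf ((gg s hL).preimage_mono (le_opens W.2.1)) ((gg s hL).preimage_mono (le_opens W.2.2))))
        (fun z hz => ?_) _ _ fun W => ?_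
      · obtain ⟨W, hU, hV, hW⟩ := exists_le_le U V hz.1 hz.2
        exact Opens.mem_iSup.2 ⟨⟨W, hU, hV⟩, hW⟩
      · refine (res_res _ _ (tU U)).trans (((hres W.2.1).trans (hres W.2.2).symm).trans (res_res _ _ (tU V)).symm))
  exact ⟨t, fun U => by rw [show res le_top t = tU U from ht U, htU]⟩

/-- The coordinate in `L`, glued. -/
theorem exists_vSec : ∃ v : Γ((Scheme.Modules.pullback (gg s hL)).obj L, ⊤), ∀ U : TA L,
    ∃ b : Γ(Sp s hL, gg s hL ⁻¹ᵁ U.opn), secEquiv s hL U b = V (fn s U) ∧
      resM _ le_top v = b • pullSec (gg s hL) (gen U) := by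
  choose b hb using fun U : TA L => (bijective_secEquiv s hL U).2 (V (fn s U))
  let vU := fun U : TA L => b U • pullSec (gg s hL) (gen U)
  have hcov : (⊤ : (Sp s hL).Opens) ≤ ⨆ U : TA L, gg s hL ⁻¹ᵁ U.opn := fun z _ => by
    obtain ⟨U, y, rfl⟩ := exists_chart s hL z
    exact Opens.mem_iSup.2 ⟨U, by rw [gg_preimage]; exact ⟨y, rfl⟩⟩
  have hres : ∀ {U V : TA L} (h : V ≤ U), resM _ ((gg s hL).preimage_mono (le_opens h)) (vU U) = vU V := fun {U V} h => by
    have hb' : res ((gg s hL).preimage_mono (le_opens h)) (b U) = (gg s hL).app V.opn (chg h) * b V := by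
      refine (bijective_secEquiv s hL V).1 ?_
      rw [secEquiv_res s hL h, hb, map_mul, secEquiv_app, hb]
      simp [ringMap, trans]
    show resM _ _ (b U • pullSec (gg s hL) (gen U)) = b V • pullSec (gg s hL) (gen V)
    conv_rhs => rw [← chg_spec h, pullSec_smul, smul_smul]
    refine (resM_smul _ _ _ _).trans ?_
    rw [resM_pullSec]
    refine congrArg (· • _) ?_
    exact hb'.trans (mul_comm _ _)
  obtain ⟨v, hv, -⟩ := TopCat.Sheaf.existsUnique_gluing'
    (⟨((Scheme.Modules.pullback (gg s hL)).obj L).presheaf, ((Scheme.Modules.pullback (gg s hL)).obj L).isSheaf⟩ :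
      TopCat.Sheaf Ab (Sp s hL))
    (fun U : TA L => gg s hL ⁻¹ᵁ U.opn) ⊤
    (fun _ => homOfLE le_top) hcov vU (fun U V => by
      refine TopCat.Sheaf.eq_of_locally_eq'
        (⟨((Scheme.Modules.pullback (gg s hL)).obj L).presheaf, ((Scheme.Modules.pullback (gg s hL)).obj L).isSheaf⟩ :
          TopCat.Sheaf Ab (Sp s hL))
        (fun W : {W : TA L // W ≤ U ∧ W ≤ V} => gg s hL ⁻¹ᵁ W.1.opn) _
        (fun W => homOfLE (le_inf ((gg s hL).preimage_mono (le_opens W.2.1)) ((gg s hL).preimage_mono (le_opens W.2.2))))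
        (fun z hz => ?_) _ _ fun W => ?_
      · obtain ⟨W, hU, hV, hW⟩ := exists_le_le U V hz.1 hz.2
        exact Opens.mem_iSup.2 ⟨⟨W, hU, hV⟩, hW⟩
      · refine (resM_resM _ _ _ (vU U)).trans (((hres W.2.1).trans (hres W.2.2).symm).trans (resM_resM _ _ _ (vU V)).symm))
  exact ⟨v, fun U => ⟨b U, hb U, hv U⟩⟩

/-- The coordinate `t`. -/
noncomputable def tSec : Γ(Sp s hL, ⊤) := (exists_tSec s hL).choose

theorem tSec_spec (U : TA L) : secEquiv s hL U (res le_top (tSec s hL)) = T (fn s U) :=
  (exists_tSec s hL).choose_spec U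

/-- The section `v` of the pullback of `L`. -/
noncomputable def vSec : Γ((Scheme.Modules.pullback (gg s hL)).obj L, ⊤) := (exists_vSec s hL).choose

/-- Its coordinate on a chart. -/
noncomputable def vFn (U : TA L) : Γ(Sp s hL, gg s hL ⁻¹ᵁ U.opn) := ((exists_vSec s hL).choose_spec U).choose

theorem vFn_spec (U : TA L) : secEquiv s hL U (vFn s hL U) = V (fn s U) :=
  ((exists_vSec s hL).choose_spec U).choose_spec.1

theorem vSec_spec (U : TA L) : resM _ le_top (vSec s hL) = vFn s hL U • pullSec (gg s hL) (gen U) :=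
  ((exists_vSec s hL).choose_spec U).choose_spec.2

theorem tSec_mul_vFn (U : TA L) : res le_top (tSec s hL) * vFn s hL U = (gg s hL).app U.opn (fn s U) := by
  refine (bijective_secEquiv s hL U).1 ?_
  rw [map_mul, tSec_spec, vFn_spec, secEquiv_app, T_mul_V]

end Groth.Agent.GysDef28
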